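import Cfsg.Agent.Mrg.Omega.NatPair.Quad

section


/-!
# Mutual pairs of natural `SL₂(q)`-modules

* `pair`: `V`, `V'` natural modules (for `F`, `F'`), `V ≤ N(V')`, `V' ≤ N(V)`, `[V, V'] ≠ 1`: `|F| = |F'|` and
  `V ∩ V' = C_V(V') = C_{V'}(V) = [V, V']` is a line of both;
* `exists_conj`: if `V'` is conjugate to `V`, then `V'` is conjugate to `V` in `N_G(V ∩ V')`;
* `le_center_of`, `nonlocal`: `N_G(V)` and `N_G(V ∩ V')` are not contained in a common subgroup `M` with
  `C_M(O₂(M)) ≤ O₂(M)`;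
* `exists_sylow`: `N_G(V) ∩ N_G(R)` contains a Sylow 2-subgroup of `G`, `R` a line of `V`.
-/

set_option autoImplicit false
set_option linter.unusedSectionVars false

namespace Cfsg.Agent.Omega.NatPair

open Subgroup Cfsg.Agent.Lib.SL2Mat

variable {G : Type*} [Group G]

/-- two subgroups which normalise each other and do not commute -/
structure Mutual (V V' : Subgroup G) : Prop where
  le : V' ≤ normalizer (V : Set G)
  le' : V ≤ normalizer (V' : Set G)
  ne : ∃ v ∈ V, ∃ w ∈ V', v * w ≠ w * v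

theorem Mutual.symm {V V' : Subgroup G} (h : Mutual V V') : Mutual V' V where
  le := h.le'
  le' := h.le
  ne := by
    obtain ⟨v, hv, w, hw, hvw⟩ := h.ne
    exact ⟨w, hw, v, hv, fun h => hvw h.symm⟩

theorem Mutual.comm_mem {V V' : Subgroup G} (h : Mutual V V') {a v : G} (ha : a ∈ V') (hv : v ∈ V) :
    a * v * a⁻¹ * v⁻¹ ∈ V ⊓ V' := by
  rw [mem_inf]
  constructor
  · exact mul_mem ((mem_normalizer_iff.1 (h.le ha) v).1 hv) (inv_mem hv)
  · have h1 : v * a⁻¹ * v⁻¹ ∈ V' := (mem_normalizer_iff.1 (h.le' hv) a⁻¹).1 (inv_mem ha)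
    have h2 : a * v * a⁻¹ * v⁻¹ = a * (v * a⁻¹ * v⁻¹) := by group
    rw [h2]
    exact mul_mem ha h1

section pair

variable {F F' : Type*} [Field F] [Field F'] {V V' : Subgroup G} (M : NatMod F V) (M' : NatMod F' V')

include M' in
theorem Mutual.quad (h : Mutual V V') : ∀ a ∈ V', ∀ b ∈ V', ∀ v ∈ V,
    b * (a * v * a⁻¹ * v⁻¹) = (a * v * a⁻¹ * v⁻¹) * b := fun _ ha _ hb _ hv =>
  M'.comm hb (mem_inf.1 (h.comm_mem ha hv)).2

theorem Mutual.ne_of {V V' : Subgroup G} (h : Mutual V V') : ∃ a ∈ V', ∃ v ∈ V, a * v ≠ v * a := by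
  obtain ⟨v, hv, w, hw, hvw⟩ := h.ne
  exact ⟨w, hw, v, hv, fun h => hvw h.symm⟩

theorem pair_aux [Finite G] [Finite F] [Finite F'] [CharP F 2] [CharP F' 2] (h : Mutual V V')
    (hle : (centralizer (V' : Set G)).relIndex V ≤ (centralizer (V : Set G)).relIndex V') :
    ∃ w w', M.Quad V' w ∧ M'.Quad V w' := by
  obtain ⟨w, hw⟩ := M.quad_ff h.le h.ne_of (h.quad M') hle
  obtain ⟨w', hw'⟩ := M'.quad_ff h.le' h.symm.ne_of (h.symm.quad M) (by rw [hw.card, hw.index])
  exact ⟨w, w', hw, hw'⟩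

theorem pair_aux' [Finite G] [Finite F] [Finite F'] [CharP F 2] [CharP F' 2] (h : Mutual V V') :
    ∃ w w', M.Quad V' w ∧ M'.Quad V w' := by
  rcases le_total ((centralizer (V' : Set G)).relIndex V) ((centralizer (V : Set G)).relIndex V') with hle | hle
  · exact pair_aux M M' h hle
  · obtain ⟨w', w, h1, h2⟩ := pair_aux M' M h.symm hle
    exact ⟨w, w', h2, h1⟩

/-- **mutual pairs of natural modules** -/
theorem pair [Finite G] [Finite F] [Finite F'] [CharP F 2] [CharP F' 2] (h : Mutual V V') :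
    Nat.card F = Nat.card F' ∧ ∃ w w', M.Quad V' w ∧ M'.Quad V w' ∧ V ⊓ V' = M.line w ∧ V ⊓ V' = M'.line w' := by
  obtain ⟨w, w', hw, hw'⟩ := pair_aux' M M' h
  refine ⟨by rw [← hw.card, hw'.index], w, w', hw, hw', ?_, ?_⟩
  · apply le_antisymm
    · rw [← hw.cent]
      intro g hg
      rw [mem_inf] at hg ⊢
      exact ⟨mem_centralizer_iff.2 fun v hv => M'.comm hv hg.2, hg.1⟩
    · intro r hr
      obtain ⟨a, ha, v, hv, rfl⟩ := hw.comm' r hr
      exact h.comm_mem ha hv
  · apply le_antisymm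
    · rw [← hw'.cent]
      intro g hg
      rw [mem_inf] at hg ⊢
      exact ⟨mem_centralizer_iff.2 fun v hv => M.comm hv hg.1, hg.2⟩
    · intro r hr
      obtain ⟨a, ha, v, hv, rfl⟩ := hw'.comm' r hr
      have := h.symm.comm_mem ha hv
      rwa [inf_comm]

end pair

section conj

variable {F : Type*} [Field F] {V : Subgroup G} (M : NatMod F V)

/-- the conjugate of a subgroup -/
abbrev cj (g : G) (V : Subgroup G) : Subgroup G := V.map (MulAut.conj g).toMonoidHom

theorem mem_cj {g x : G} {V : Subgroup G} : x ∈ cj g V ↔ g⁻¹ * x * g ∈ V := by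
  rw [cj, Subgroup.mem_map]
  constructor
  · rintro ⟨y, hy, rfl⟩
    have : g⁻¹ * (MulAut.conj g y) * g = y := by rw [MulAut.conj_apply]; group
    show g⁻¹ * (MulAut.conj g y) * g ∈ V
    rwa [this]
  · intro h
    refine ⟨_, h, ?_⟩
    show MulAut.conj g (g⁻¹ * x * g) = x
    rw [MulAut.conj_apply]; group

theorem cj_mul (g h : G) (V : Subgroup G) : cj (g * h) V = cj g (cj h V) := by
  ext x
  rw [mem_cj, mem_cj, mem_cj]
  have : (g * h)⁻¹ * x * (g * h) = h⁻¹ * (g⁻¹ * x * g) * h := by group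
  rw [this]

theorem cj_one (V : Subgroup G) : cj 1 V = V := by
  ext x
  rw [mem_cj]
  simp

theorem cj_eq_iff {g : G} {V : Subgroup G} : cj g V = V ↔ g ∈ normalizer (V : Set G) := by
  rw [mem_normalizer_iff]
  constructor
  · intro h x
    have h1 : g * x * g⁻¹ ∈ cj g V ↔ x ∈ V := by
      rw [mem_cj]
      have : g⁻¹ * (g * x * g⁻¹) * g = x := by group
      rw [this]
    rw [h] at h1
    exact h1.symm
  · intro h
    ext x
    rw [mem_cj, h]
    have : g * (g⁻¹ * x * g) * g⁻¹ = x := by group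
    rw [this]

theorem mem_normalizer_cj {g x : G} {V : Subgroup G} :
    x ∈ normalizer ((cj g V : Subgroup G) : Set G) ↔ g⁻¹ * x * g ∈ normalizer (V : Set G) := by
  rw [← cj_eq_iff, ← cj_eq_iff, ← cj_mul]
  constructor
  · intro h
    have h1 : cj (g⁻¹ * x * g) V = cj g⁻¹ (cj (x * g) V) := by rw [← cj_mul]; congr 1; group
    rw [h1, h, ← cj_mul, inv_mul_cancel, cj_one]
  · intro h
    have h1 : cj (x * g) V = cj g (cj (g⁻¹ * x * g) V) := by rw [← cj_mul]; congr 1; group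
    rw [h1, h]

/-- the conjugate of a natural module -/
def NatMod.conj (g : G) : NatMod F (cj g V) where
  e x := g * M.e x * g⁻¹
  e_add x y := by rw [M.e_add]; group
  e_inj x y h := M.e_inj (mul_left_cancel (mul_right_cancel h))
  mem_iff x := by
    rw [mem_cj, M.mem_iff]
    constructor
    · rintro ⟨y, hy⟩
      exact ⟨y, by rw [hy]; group⟩
    · rintro ⟨y, hy⟩
      exact ⟨y, by rw [← hy]; group⟩
  lift A := by
    obtain ⟨h, hA⟩ := M.lift A
    refine ⟨g * h * g⁻¹, fun x => ?_⟩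
    rw [← hA x]; group
  norm x hx h A hA := by
    rw [mem_normalizer_cj] at hx
    obtain ⟨B, hB⟩ := M.norm _ hx (g⁻¹ * h * g) A (by
      intro y
      have h1 : g⁻¹ * h * g * M.e y * (g⁻¹ * h * g)⁻¹ = g⁻¹ * (h * (g * M.e y * g⁻¹) * h⁻¹) * g := by group
      rw [h1, hA]; group)
    refine ⟨B, fun y => ?_⟩
    rw [← hB y]; group

theorem NatMod.conj_line (g : G) (w : Fin 2 → F) : (M.conj g).line w = cj g (M.line w) := by
  ext x
  rw [NatMod.mem_line, mem_cj, NatMod.mem_line]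
  constructor
  · rintro ⟨c, hc⟩
    refine ⟨c, ?_⟩
    rw [← hc]
    show _ = g⁻¹ * (g * M.e (c • w) * g⁻¹) * g
    group
  · rintro ⟨c, hc⟩
    refine ⟨c, ?_⟩
    show g * M.e (c • w) * g⁻¹ = x
    rw [hc]; group

theorem NatMod.cj_line_of_ind {h : G} {A : Matrix.SpecialLinearGroup (Fin 2) F} (hA : M.Ind h A) (w : Fin 2 → F) :
    cj h (M.line w) = M.line (ap A w) := by
  ext x
  rw [mem_cj, NatMod.mem_line, NatMod.mem_line]
  constructor
  · rintro ⟨c, hc⟩
    refine ⟨c, ?_⟩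
    rw [← ap_smul, ← hA, hc]; group
  · rintro ⟨c, hc⟩
    refine ⟨c, ?_⟩
    rw [← ap_smul, ← hA] at hc
    rw [← hc]; group

include M in
/-- `V` and `V' = gVg⁻¹` are conjugate in `N_G(V ∩ V')` -/
theorem exists_conj [Finite G] [Finite F] [CharP F 2] {g : G} (h : Mutual V (cj g V)) :
    ∃ x ∈ normalizer ((V ⊓ cj g V : Subgroup G) : Set G), cj x V = cj g V := by
  obtain ⟨-, w, w', hw, hw', hl, hl'⟩ := pair M (M.conj g) h
  obtain ⟨A, hA⟩ := exists_ap hw.ne hw'.ne
  obtain ⟨l, hlA⟩ := M.lift A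
  have h1 : cj l (M.line w) = M.line w' := by rw [M.cj_line_of_ind hlA, hA]
  refine ⟨g * l, ?_, ?_⟩
  · rw [← cj_eq_iff]
    nth_rewrite 1 [hl]
    rw [cj_mul, h1, ← M.conj_line, ← hl']
  · rw [cj_mul, cj_eq_iff.2 (M.mem_normalizer hlA)]

include M in
/-- `N_G(V)` is transitive on the nontrivial elements of `V` -/
theorem NatMod.trans {v v' : G} (hv : v ∈ V) (hv1 : v ≠ 1) (hv' : v' ∈ V) (hv'1 : v' ≠ 1) :
    ∃ l ∈ normalizer (V : Set G), l * v * l⁻¹ = v' := by
  obtain ⟨x, rfl⟩ := (M.mem_iff v).1 hv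
  obtain ⟨y, rfl⟩ := (M.mem_iff v').1 hv'
  obtain ⟨A, hA⟩ := exists_ap (x := x) (y := y) (fun h => hv1 (by rw [h, M.e_zero])) (fun h => hv'1 (by rw [h, M.e_zero]))
  obtain ⟨l, hl⟩ := M.lift A
  exact ⟨l, M.mem_normalizer hl, by rw [hl, hA]⟩

include M in
/-- if `N_G(V) ≤ K`, `Q` a normal 2-subgroup of `K` with `C_K(Q) ≤ Q`, then `V ≤ Z(Q)` -/
theorem NatMod.le_center_of [Finite G] [Finite F] [CharP F 2] (S : Sylow 2 G) (hS : (S : Subgroup G) ≤ normalizer (V : Set G))
    (hZ : ∀ z ∈ S, z * z = 1 → (∀ s ∈ S, s * z = z * s) → z ∈ V) {K Q : Subgroup G} (hVK : normalizer (V : Set G) ≤ K)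
    (hQK : Q ≤ K) (hQ : IsPGroup 2 Q) (hQn : K ≤ normalizer (Q : Set G)) (hQc : ∀ x ∈ K, (∀ q ∈ Q, q * x = x * q) → x ∈ Q) :
    ∀ v ∈ V, v ∈ Q ∧ ∀ q ∈ Q, q * v = v * q := by
  have : Fact (Nat.Prime 2) := ⟨Nat.prime_two⟩
  -- `Q ≤ S`
  have hQS : Q ≤ (S : Subgroup G) := by
    have hSQ : (S : Subgroup G) ≤ normalizer (Q : Set G) := (hS.trans hVK).trans hQn
    have h1 : IsPGroup 2 ((S : Subgroup G) ⊔ Q : Subgroup G) := S.isPGroup'.to_sup_of_normal_right' hQ hSQ
    have h2 := S.is_maximal' h1 le_sup_left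
    rw [← h2]
    exact le_sup_right
  -- a central involution of `S`
  have hVne : Nontrivial V := by
    have h1 : (1 : ℕ) < Nat.card V := by
      rw [M.card_V]
      exact Nat.one_lt_pow (by norm_num) Finite.one_lt_card
    exact Finite.one_lt_card_iff_nontrivial.1 h1
  have hSne : Nontrivial S := by
    have h2V : IsPGroup 2 V := fun v => ⟨1, by
      rw [pow_one, pow_two]; exact Subtype.ext (M.sq v.2)⟩
    obtain ⟨P, hP⟩ := h2V.exists_le_sylow
    have h1 : Nat.card S = Nat.card P := Nat.card_congr (Sylow.equiv S P).toEquiv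
    rw [← Finite.one_lt_card_iff_nontrivial, h1]
    exact lt_of_lt_of_le (Finite.one_lt_card_iff_nontrivial.2 hVne)
      (Nat.card_le_card_of_injective _ (inclusion_injective hP))
  obtain ⟨z, hzS, hz2, hzc, hz1⟩ : ∃ z ∈ (S : Subgroup G), z * z = 1 ∧ (∀ s ∈ S, s * z = z * s) ∧ z ≠ 1 := by
    have h1 : Nontrivial (center S) := S.isPGroup'.center_nontrivial
    have h2 : 2 ∣ Nat.card (center S) := by
      obtain ⟨n, hn⟩ := IsPGroup.iff_card.1 (S.isPGroup'.to_subgroup (center S))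
      rw [hn]
      have : n ≠ 0 := by
        rintro rfl
        rw [pow_zero] at hn
        exact absurd (Finite.one_lt_card_iff_nontrivial.2 h1) (by rw [hn]; norm_num)
      exact dvd_pow_self 2 this
    obtain ⟨z, hz⟩ := exists_prime_orderOf_dvd_card' 2 h2
    have hz2 : z * z = 1 := by
      have h3 := pow_orderOf_eq_one z
      rwa [hz, pow_two] at h3
    refine ⟨((z : S) : G), (z : S).2, ?_, ?_, ?_⟩
    · exact congrArg (fun t : center S => ((t : S) : G)) hz2
    · intro s hs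
      exact congrArg Subtype.val (mem_center_iff.1 z.2 ⟨s, hs⟩)
    · intro h
      have : z = 1 := Subtype.ext (Subtype.ext h)
      rw [this, orderOf_one] at hz
      norm_num at hz
  have hzV : z ∈ V := hZ z hzS hz2 hzc
  have hzQ : z ∈ Q := hQc z (hVK (hS hzS)) fun q hq => hzc q (hQS hq)
  intro v hv
  by_cases hv1 : v = 1
  · rw [hv1]
    exact ⟨one_mem _, fun q _ => by rw [mul_one, one_mul]⟩
  · obtain ⟨l, hl, rfl⟩ := M.trans hzV hz1 hv hv1
    have hlQ := hQn (hVK hl)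
    refine ⟨(mem_normalizer_iff.1 hlQ z).1 hzQ, fun q hq => ?_⟩
    have h1 : l⁻¹ * q * l ∈ Q := by
      have := (mem_normalizer_iff.1 (inv_mem hlQ) q).1 hq
      rwa [inv_inv] at this
    have h2 := hzc _ (hQS h1)
    calc q * (l * z * l⁻¹) = l * (l⁻¹ * q * l * z) * l⁻¹ := by group
      _ = l * (z * (l⁻¹ * q * l)) * l⁻¹ := by rw [h2]
      _ = l * z * l⁻¹ * q := by group

include M in
/-- **Lemma R**: `⟨N_G(V), N_G(V ∩ V')⟩` is not contained in a subgroup of characteristic 2 -/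
theorem nonlocal [Finite G] [Finite F] [CharP F 2] (S : Sylow 2 G) (hS : (S : Subgroup G) ≤ normalizer (V : Set G))
    (hZ : ∀ z ∈ S, z * z = 1 → (∀ s ∈ S, s * z = z * s) → z ∈ V) {g : G} (h : Mutual V (cj g V)) {K Q : Subgroup G}
    (hVK : normalizer (V : Set G) ≤ K) (hRK : normalizer ((V ⊓ cj g V : Subgroup G) : Set G) ≤ K)
    (hQK : Q ≤ K) (hQ : IsPGroup 2 Q) (hQn : K ≤ normalizer (Q : Set G))
    (hQc : ∀ x ∈ K, (∀ q ∈ Q, q * x = x * q) → x ∈ Q) : False := by
  have h1 := M.le_center_of S hS hZ hVK hQK hQ hQn hQc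
  obtain ⟨x, hx, hxV⟩ := exists_conj M h
  obtain ⟨v, hv, w, hw, hvw⟩ := h.ne
  apply hvw
  refine ((h1 v hv).2 w ?_).symm
  rw [← hxV, mem_cj] at hw
  have h2 := (h1 _ hw).1
  have h3 := (mem_normalizer_iff.1 (hQn (hRK hx)) _).1 h2
  have h4 : x * (x⁻¹ * w * x) * x⁻¹ = w := by group
  rwa [h4] at h3

end conj

end Cfsg.Agent.Omega.NatPair

end

section


/-!
# Natural `SL₂(q)`-modules: Sylow subgroups, and 2-groups normalised by a torus

* `NatMod.exists_sylow`: a line of `V` is normalised by a Sylow 2-subgroup of `G` inside `N_G(V)`;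
* `NatMod.full_of_sylow`: a Sylow 2-subgroup of `G` inside `N_G(V) ∩ N_G(R)`, `R` a line, induces all the transvections with
  axis `R`; so `C_V(S) ≤ R` (`NatMod.cent_le_of_sylow`);
* `NatMod.lin_of_torus`: a 2-subgroup `Q` of `N_G(V) ∩ N_G(R)` normalised by `N_G(V) ∩ N_G(R)` induces transvections with
  axis `R` only (no field automorphisms).
-/

set_option autoImplicit false
set_option linter.unusedSectionVars false

namespace Cfsg.Agent.Omega.NatPair

open Subgroup Cfsg.Agent.Lib.SL2Mat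

variable {G : Type*} [Group G]

namespace NatMod

variable {F : Type*} [Field F] {V : Subgroup G} (M : NatMod F V)

/-- the image of a line -/
theorem cj_line [Finite F] {g : G} (hg : g ∈ normalizer (V : Set G)) (w : Fin 2 → F) :
    cj g (M.line w) = M.line (M.act g w) := by
  obtain ⟨s, hs⟩ := M.exists_semi hg
  ext x
  rw [mem_cj, mem_line, mem_line]
  constructor
  · rintro ⟨c, hc⟩
    refine ⟨s c, ?_⟩
    rw [← hs, M.e_act hg, hc]; group
  · rintro ⟨c, hc⟩
    refine ⟨s.symm c, ?_⟩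
    have h1 : M.act g (s.symm c • w) = c • M.act g w := by rw [hs, RingEquiv.apply_symm_apply]
    have h2 := M.e_act hg (s.symm c • w)
    rw [h1, hc] at h2
    rw [h2]; group

theorem line_smul {w : Fin 2 → F} {c : F} (hc : c ≠ 0) : M.line (c • w) = M.line w := by
  ext x
  rw [mem_line, mem_line]
  constructor
  · rintro ⟨d, hd⟩
    exact ⟨d * c, by rw [mul_smul]; exact hd⟩
  · rintro ⟨d, hd⟩
    refine ⟨d * c⁻¹, ?_⟩
    rw [smul_smul, mul_assoc, inv_mul_cancel₀ hc, mul_one]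
    exact hd

theorem line_eq_iff {w w' : Fin 2 → F} (hw' : w' ≠ 0) : M.line w' = M.line w ↔ ∃ c : F, w' = c • w := by
  constructor
  · intro h
    have h1 : M.e w' ∈ M.line w' := M.e_mem_line.2 ⟨1, (one_smul _ _).symm⟩
    rw [h, M.e_mem_line] at h1
    exact h1
  · rintro ⟨c, rfl⟩
    refine M.line_smul ?_
    rintro rfl
    exact hw' (zero_smul _ _)

/-- a line of `V` is normalised by a Sylow 2-subgroup of `G` inside `N_G(V)` -/
theorem exists_sylow [Finite G] [Finite F] [CharP F 2] (S : Sylow 2 G) (hS : (S : Subgroup G) ≤ normalizer (V : Set G))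
    {w : Fin 2 → F} (hw : w ≠ 0) :
    ∃ S₁ : Sylow 2 G, (S₁ : Subgroup G) ≤ normalizer (V : Set G) ∧
      (S₁ : Subgroup G) ≤ normalizer ((M.line w : Subgroup G) : Set G) := by
  have : Fact (Nat.Prime 2) := ⟨Nat.prime_two⟩
  -- a fixed vector
  let _ : MulAction S (Fin 2 → F) :=
    { smul := fun s x => M.act s x
      one_smul := fun x => M.act_one x
      mul_smul := fun s t x => M.act_mul (hS s.2) (hS t.2) x }
  have hcard : 2 ∣ Nat.card (Fin 2 → F) := by
    have h1 : 2 ∣ Nat.card F := by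
      have : Fintype F := Fintype.ofFinite F
      obtain ⟨n, -, hn⟩ := FiniteField.card F 2
      rw [Nat.card_eq_fintype_card, hn]
      exact dvd_pow_self 2 n.pos.ne'
    rw [show Nat.card (Fin 2 → F) = Nat.card F * Nat.card F by simp [Nat.card_fun, pow_two]]
    exact h1.mul_left _
  obtain ⟨x, hx, hx0⟩ := S.isPGroup'.exists_fixed_point_of_prime_dvd_card_of_fixed_point (Fin 2 → F) hcard (a := 0) (by
    intro s
    show M.act s 0 = 0
    apply M.e_inj
    rw [M.e_act (hS s.2), M.e_zero]; group)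
  obtain ⟨A, hA⟩ := exists_ap (x := x) (y := w) (Ne.symm hx0) hw
  obtain ⟨l, hl⟩ := M.lift A
  have hlV := M.mem_normalizer hl
  refine ⟨l • S, ?_, ?_⟩
  · intro s hs
    have h1 : l⁻¹ * s * l ∈ (S : Subgroup G) := by
      have h2 := Subgroup.mem_pointwise_smul_iff_inv_smul_mem.1 hs
      rw [← map_inv, MulAut.smul_def, MulAut.conj_apply, inv_inv] at h2
      exact h2
    have h2 := mul_mem (mul_mem hlV (hS h1)) (inv_mem hlV)
    have h3 : l * (l⁻¹ * s * l) * l⁻¹ = s := by group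
    rwa [h3] at h2
  · intro s hs
    have h1 : l⁻¹ * s * l ∈ (S : Subgroup G) := by
      have h2 := Subgroup.mem_pointwise_smul_iff_inv_smul_mem.1 hs
      rw [← map_inv, MulAut.smul_def, MulAut.conj_apply, inv_inv] at h2
      exact h2
    have h2 : M.act (l⁻¹ * s * l) x = x := hx ⟨_, h1⟩
    rw [← cj_eq_iff, ← hA, ← M.cj_line_of_ind hl, ← cj_mul]
    have h3 : s * l = l * (l⁻¹ * s * l) := by group
    rw [h3, cj_mul, M.cj_line (hS h1), h2]

/-- an element of `SL₂(F)` fixing a vector is an involution or trivial -/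
theorem _root_.Cfsg.Agent.Omega.NatPair.sq_of_fix [CharP F 2] {B : Matrix.SpecialLinearGroup (Fin 2) F} {w : Fin 2 → F}
    (hw : w ≠ 0) (hB : ap B w = w) (x : Fin 2 → F) : ap B (ap B x) = x := by
  have h1 : dt w (ap B x - x) = 0 := by
    have h2 : dt (ap B w) (ap B x) = dt w x := by
      unfold dt
      rw [ap_zero', ap_zero', ap_one', ap_one']
      linear_combination (w 0 * x 1 - w 1 * x 0) * det_eq B
    rw [hB] at h2
    unfold dt at h2 ⊢
    rw [Pi.sub_apply, Pi.sub_apply]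
    linear_combination h2
  obtain ⟨c, hc⟩ := exists_smul_of_dt hw h1
  have h2 : ap B x = x + c • w := by rw [← hc]; abel
  rw [h2, ap_add, ap_smul, hB, h2, add_assoc,
    show c • w + c • w = 0 from funext fun i => CharTwo.add_self_eq_zero ((c • w) i), add_zero]

/-- the group of all elements which induce a transvection with axis `w` -/
def UW (w : Fin 2 → F) : Subgroup G where
  carrier := {u | ∃ B, ap B w = w ∧ M.Ind u B}
  mul_mem' := by
    rintro a b ⟨A, hA, hA'⟩ ⟨B, hB, hB'⟩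
    refine ⟨A * B, by rw [ap_mul, hB, hA], fun x => ?_⟩
    have h1 : a * b * M.e x * (a * b)⁻¹ = a * (b * M.e x * b⁻¹) * a⁻¹ := by group
    rw [h1, hB', hA', ap_mul]
  one_mem' := ⟨1, ap_one w, fun x => by rw [ap_one]; group⟩
  inv_mem' := by
    rintro a ⟨A, hA, hA'⟩
    refine ⟨A⁻¹, ?_, fun x => ?_⟩
    · nth_rewrite 1 [← hA]
      exact ap_inv_ap A w
    · have h1 := hA' (ap A⁻¹ x)
      rw [ap_ap_inv] at h1
      rw [← h1]; group

theorem UW_le (w : Fin 2 → F) : M.UW w ≤ normalizer (V : Set G) := by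
  rintro u ⟨B, -, hB⟩
  exact M.mem_normalizer hB

theorem conj_mem_UW [Finite F] {w : Fin 2 → F} (hw : w ≠ 0) {g u : G} (hg : g ∈ normalizer (V : Set G))
    (hgw : g ∈ normalizer ((M.line w : Subgroup G) : Set G)) (hu : u ∈ M.UW w) : g * u * g⁻¹ ∈ M.UW w := by
  obtain ⟨B, hB, hB'⟩ := hu
  obtain ⟨B', hB''⟩ := M.norm g hg u B hB'
  have hI : M.Ind (g * u * g⁻¹) B' := hB''
  have huV : u ∈ normalizer (V : Set G) := M.mem_normalizer hB'
  refine ⟨B', ?_, hI⟩
  rw [← cj_eq_iff, M.cj_line hg, M.line_eq_iff (M.act_ne_zero hg hw)] at hgw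
  obtain ⟨c, hc⟩ := hgw
  have hc0 : c ≠ 0 := by
    rintro rfl
    rw [zero_smul] at hc
    exact M.act_ne_zero hg hw hc
  have h1 : M.act (g * u * g⁻¹) (M.act g w) = M.act g w := by
    rw [← M.act_mul (M.mem_normalizer hI) hg]
    have h2 : g * u * g⁻¹ * g = g * u := by group
    rw [h2, M.act_mul hg huV, M.act_of_ind hB', hB]
  rw [M.act_of_ind hI, hc, ap_smul] at h1
  exact smul_right_injective _ hc0 h1

/-- a Sylow 2-subgroup of `G` inside `N_G(V) ∩ N_G(R)` induces all the transvections with axis `R` -/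
theorem full_of_sylow [Finite G] [Finite F] [CharP F 2] (S : Sylow 2 G)
    (hS : (S : Subgroup G) ≤ normalizer (V : Set G)) {w : Fin 2 → F} (hw : w ≠ 0)
    (hSw : (S : Subgroup G) ≤ normalizer ((M.line w : Subgroup G) : Set G)) {B : Matrix.SpecialLinearGroup (Fin 2) F}
    (hB : ap B w = w) : ∃ s ∈ S, M.Ind s B := by
  have : Fact (Nat.Prime 2) := ⟨Nat.prime_two⟩
  set N := normalizer (V : Set G) with hN
  let φ : N →* MulAut V := V.normalizerMonoidHom
  have hφ : ∀ n : N, ∀ v : V, ((φ n v : V) : G) = n * v * (n : G)⁻¹ := fun n v => rfl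
  let ψ : N →* φ.range := φ.rangeRestrict
  have hψ : Function.Surjective ψ := φ.rangeRestrict_surjective
  let P : Sylow 2 N := S.subtype hS
  let P' : Sylow 2 φ.range := P.mapSurjective hψ
  let U : Subgroup φ.range := ((M.UW w).subgroupOf N).map ψ
  have hU2 : IsPGroup 2 U := by
    rintro ⟨_, ⟨n, hn, rfl⟩⟩
    obtain ⟨B, hB, hB'⟩ := mem_subgroupOf.1 hn
    refine ⟨1, ?_⟩
    apply Subtype.ext
    show ψ n ^ (2 ^ 1) = 1
    rw [pow_one, pow_two]
    apply Subtype.ext
    show φ n * φ n = 1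
    ext v
    obtain ⟨x, hx⟩ := (M.mem_iff (v : G)).1 v.2
    show (n : G) * ((n : G) * v * (n : G)⁻¹) * (n : G)⁻¹ = v
    rw [← hx, hB', hB', sq_of_fix hw hB]
  have hnorm : (P' : Subgroup φ.range) ≤ normalizer (U : Set φ.range) := by
    rintro _ ⟨p, hp, rfl⟩
    have hp' : (p : G) ∈ (S : Subgroup G) := mem_subgroupOf.1 hp
    have key : ∀ g : N, (g : G) ∈ normalizer ((M.line w : Subgroup G) : Set G) → ∀ u ∈ U, ψ g * u * (ψ g)⁻¹ ∈ U := by
      rintro g hg _ ⟨n, hn, rfl⟩
      refine ⟨g * n * g⁻¹, ?_, by rw [map_mul, map_mul, map_inv]⟩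
      exact mem_subgroupOf.2 (M.conj_mem_UW hw g.2 hg (mem_subgroupOf.1 hn))
    rw [mem_normalizer_iff]
    intro u
    constructor
    · exact key p (hSw hp') u
    · intro h
      have h1 := key p⁻¹ (inv_mem (hSw hp')) _ h
      rw [map_inv, inv_inv] at h1
      have h2 : (ψ p)⁻¹ * (ψ p * u * (ψ p)⁻¹) * ψ p = u := by group
      rwa [h2] at h1
  have h1 : IsPGroup 2 ((P' : Subgroup φ.range) ⊔ U : Subgroup φ.range) := P'.isPGroup'.to_sup_of_normal_right' hU2 hnorm
  have h2 := P'.is_maximal' h1 le_sup_left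
  have hUP : U ≤ (P' : Subgroup φ.range) := by rw [← h2]; exact le_sup_right
  obtain ⟨l, hl⟩ := M.lift B
  have hlN : l ∈ N := M.mem_normalizer hl
  obtain ⟨p, hp, hpl⟩ := hUP ⟨⟨l, hlN⟩, mem_subgroupOf.2 ⟨B, hB, hl⟩, rfl⟩
  refine ⟨p, mem_subgroupOf.1 hp, fun x => ?_⟩
  have h3 : φ p = φ ⟨l, hlN⟩ := congrArg Subtype.val hpl
  have h4 := congrArg (fun α : MulAut V => ((α ⟨M.e x, M.e_mem x⟩ : V) : G)) h3
  rw [← hl x]
  exact h4

theorem cent_le_of_sylow [Finite G] [Finite F] [CharP F 2] (S : Sylow 2 G)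
    (hS : (S : Subgroup G) ≤ normalizer (V : Set G)) {w : Fin 2 → F} (hw : w ≠ 0)
    (hSw : (S : Subgroup G) ≤ normalizer ((M.line w : Subgroup G) : Set G)) :
    centralizer ((S : Subgroup G) : Set G) ⊓ V ≤ M.line w := by
  intro v hv
  rw [mem_inf] at hv
  obtain ⟨x, rfl⟩ := (M.mem_iff v).1 hv.2
  obtain ⟨D, hD⟩ := exists_ap_e hw
  have h1 : ap (D * up 1 * D⁻¹) w = w := by
    rw [← hD, ap_mul, ap_mul, ap_inv_ap, ap_up_e]
  obtain ⟨s, hs, hsB⟩ := M.full_of_sylow S hS hw hSw h1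
  have h2 : ap (D * up 1 * D⁻¹) x = x := by
    apply M.e_inj
    rw [← hsB, mul_inv_eq_iff_eq_mul]
    exact mem_centralizer_iff.1 hv.1 s hs
  obtain ⟨y, rfl⟩ : ∃ y, ap D y = x := ⟨ap D⁻¹ x, ap_ap_inv D x⟩
  rw [ap_mul, ap_mul, ap_inv_ap] at h2
  have h3 : ap (up 1) y = y := by
    have h4 := congrArg (ap D⁻¹) h2
    rwa [ap_inv_ap, ap_inv_ap] at h4
  have h4 := congrFun h3 0
  rw [ap_zero', up_00, up_01, one_mul, one_mul] at h4
  have h5 : y 1 = 0 := left_eq_add.1 h4.symm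
  rw [M.e_mem_line]
  refine ⟨y 0, ?_⟩
  rw [← hD, ← ap_smul]
  congr 1
  apply ext2
  · simp
  · rw [h5]; simp

theorem act_pow {g : G} (hg : g ∈ normalizer (V : Set G)) {w : Fin 2 → F} {γ : F}
    (hl : ∀ (c : F) x, M.act g (c • x) = c • M.act g x) (hw : M.act g w = γ • w) (n : ℕ) :
    M.act (g ^ n) w = γ ^ n • w := by
  induction n with
  | zero => rw [pow_zero, pow_zero, M.act_one, one_smul]
  | succ n ih => rw [pow_succ', M.act_mul hg (pow_mem hg n), ih, hl, hw, smul_smul, ← pow_succ]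

theorem _root_.Cfsg.Agent.Omega.NatPair.eq_one_of_pow [CharP F 2] {γ : F} {k : ℕ} (h : γ ^ 2 ^ k = 1) : γ = 1 := by
  have h1 : (γ - 1) ^ 2 ^ k = 0 := by
    rw [sub_pow_char_pow, h, one_pow, sub_self]
  exact sub_eq_zero.1 (pow_eq_zero_iff (by positivity) |>.1 h1)

/-- the torus element -/
theorem exists_torus {w : Fin 2 → F} (hw : w ≠ 0) {c : F} (hc : c ≠ 0) :
    ∃ l : G, ∃ B : Matrix.SpecialLinearGroup (Fin 2) F, M.Ind l B ∧ ap B w = c • w := by
  obtain ⟨D, hD⟩ := exists_ap_e hw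
  obtain ⟨l, hl⟩ := M.lift (D * dg c hc * D⁻¹)
  refine ⟨l, _, hl, ?_⟩
  rw [← hD, ap_mul, ap_mul, ap_inv_ap, ← ap_smul]
  congr 1
  apply ext2
  · rw [ap_zero']; simp
  · rw [ap_one']; simp

/-- a 2-subgroup of `N_G(V) ∩ N_G(R)` normalised by `N_G(V) ∩ N_G(R)` induces transvections with axis `R` only -/
theorem lin_of_torus [Finite G] [Finite F] [CharP F 2] {w : Fin 2 → F} (hw : w ≠ 0) {Q : Subgroup G}
    (hQV : Q ≤ normalizer (V : Set G)) (hQw : Q ≤ normalizer ((M.line w : Subgroup G) : Set G)) (hQ : IsPGroup 2 Q)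
    (hQn : ∀ g ∈ normalizer (V : Set G), g ∈ normalizer ((M.line w : Subgroup G) : Set G) → ∀ x ∈ Q, g * x * g⁻¹ ∈ Q) :
    Q ≤ M.UW w := by
  intro x hx
  have hxV := hQV hx
  have hmul : ∀ g ∈ normalizer (V : Set G), g ∈ normalizer ((M.line w : Subgroup G) : Set G) →
      ∃ c : F, c ≠ 0 ∧ M.act g w = c • w := by
    intro g hg hgw
    rw [← cj_eq_iff, M.cj_line hg, M.line_eq_iff (M.act_ne_zero hg hw)] at hgw
    obtain ⟨c, hc⟩ := hgw
    refine ⟨c, ?_, hc⟩
    rintro rfl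
    rw [zero_smul] at hc
    exact M.act_ne_zero hg hw hc
  obtain ⟨s, hs⟩ := M.exists_semi hxV
  obtain ⟨s', hs'⟩ := M.exists_semi (inv_mem hxV)
  obtain ⟨α, hα0, hα⟩ := hmul x hxV (hQw hx)
  obtain ⟨β, hβ0, hβ⟩ := hmul x⁻¹ (inv_mem hxV) (inv_mem (hQw hx))
  have hαβ : s β * α = 1 := by
    have h1 := M.act_act_inv hxV w
    rw [hβ, hs, hα, smul_smul] at h1
    exact smul_left_injective F hw (by simpa using h1)
  have hss : ∀ c, s (s' c) = c := by
    intro c
    have h1 := M.act_act_inv hxV (c • w)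
    rw [hs', hs, M.act_act_inv hxV] at h1
    exact smul_left_injective F hw h1
  -- the field automorphism is trivial
  have hs1 : ∀ c, s c = c := by
    intro c
    by_cases hc : c = 0
    · rw [hc, map_zero]
    obtain ⟨l, T, hl, hT⟩ := M.exists_torus hw hc
    have hlV : l ∈ normalizer (V : Set G) := M.mem_normalizer hl
    have hlw : l ∈ normalizer ((M.line w : Subgroup G) : Set G) := by
      rw [← cj_eq_iff, M.cj_line_of_ind hl, hT, M.line_smul hc]
    have hlact : ∀ y, M.act l y = ap T y := M.act_of_ind hl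
    have hlinv : ∀ (d : F) y, M.act l⁻¹ (d • y) = d • M.act l⁻¹ y := by
      intro d y
      obtain ⟨z, rfl⟩ : ∃ z, M.act l z = y := ⟨M.act l⁻¹ y, M.act_act_inv hlV y⟩
      rw [M.act_inv_act hlV, hlact, ← ap_smul, ← hlact, M.act_inv_act hlV]
    have hlw' : M.act l⁻¹ w = c⁻¹ • w := by
      have h1 : w = M.act l (c⁻¹ • w) := by
        rw [hlact, ap_smul, hT, smul_smul, inv_mul_cancel₀ hc, one_smul]
      nth_rewrite 1 [h1]
      rw [M.act_inv_act hlV]
    set u := x * (l * x⁻¹ * l⁻¹) with hu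
    have huQ : u ∈ Q := mul_mem hx (hQn l hlV hlw _ (inv_mem hx))
    have huV := hQV huQ
    have hact : ∀ y, M.act u y = M.act x (M.act l (M.act x⁻¹ (M.act l⁻¹ y))) := by
      intro y
      rw [hu, M.act_mul hxV (mul_mem (mul_mem hlV (inv_mem hxV)) (inv_mem hlV)),
        M.act_mul (mul_mem hlV (inv_mem hxV)) (inv_mem hlV), M.act_mul hlV (inv_mem hxV)]
    have hulin : ∀ (d : F) y, M.act u (d • y) = d • M.act u y := by
      intro d y
      rw [hact, hact, hlinv, hs', hlact, ap_smul, hs, hss, hlact]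
    have huw : M.act u w = (s c * c⁻¹) • w := by
      rw [hact, hlw', hs', hβ, smul_smul, hlact, ap_smul, hT, smul_smul, hs, hα, smul_smul]
      congr 1
      rw [map_mul, map_mul, hss]
      calc c⁻¹ * s β * s c * α = (s β * α) * (s c * c⁻¹) := by ring
        _ = s c * c⁻¹ := by rw [hαβ, one_mul]
    obtain ⟨k, hk⟩ := hQ ⟨u, huQ⟩
    have hk' : u ^ 2 ^ k = 1 := congrArg Subtype.val hk
    have h1 := M.act_pow huV hulin huw (2 ^ k)
    rw [hk', M.act_one] at h1
    have h2 : (s c * c⁻¹) ^ 2 ^ k = 1 := (smul_left_injective F hw (by simpa using h1)).symm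
    have h3 := eq_one_of_pow h2
    rwa [mul_inv_eq_one₀ hc] at h3
  have hlin : ∀ (d : F) y, M.act x (d • y) = d • M.act x y := fun d y => by rw [hs, hs1]
  obtain ⟨k, hk⟩ := hQ ⟨x, hx⟩
  have hk' : x ^ 2 ^ k = 1 := congrArg Subtype.val hk
  have hα1 : α = 1 := by
    have h1 := M.act_pow hxV hlin hα (2 ^ k)
    rw [hk', M.act_one] at h1
    exact eq_one_of_pow (smul_left_injective F hw (by simpa using h1)).symm
  rw [hα1, one_smul] at hα
  -- the determinant
  obtain ⟨D, hD⟩ := exists_ap_e hw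
  set y := ap D ![0, 1] with hy
  have hwy : dt w y = 1 := by
    have h1 := det_eq D
    rw [← hD, hy]
    unfold dt
    rw [ap_zero', ap_zero', ap_one', ap_one']
    simp only [Matrix.cons_val_zero, Matrix.cons_val_one, mul_one, mul_zero, add_zero, zero_add]
    rw [← h1]; ring
  have hww : dt w w = 0 := by unfold dt; ring
  set δ := dt w (M.act x y) with hδ
  have hdt : ∀ z, dt w (M.act x z) = δ * dt w z := by
    intro z
    obtain ⟨a, b, rfl⟩ := exists_comb (by rw [hwy]; exact one_ne_zero : dt w y ≠ 0) z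
    rw [M.act_add hxV, hlin, hlin, hα]
    simp only [dt_add, dt_smul, hww, hwy, ← hδ]
    ring
  have hdt' : ∀ (n : ℕ) z, dt w (M.act (x ^ n) z) = δ ^ n * dt w z := by
    intro n
    induction n with
    | zero => intro z; rw [pow_zero, pow_zero, M.act_one, one_mul]
    | succ n ih =>
      intro z
      rw [pow_succ', M.act_mul hxV (pow_mem hxV n), hdt, ih, pow_succ']; ring
  have hδ1 : δ = 1 := by
    have h1 := hdt' (2 ^ k) y
    rw [hk', M.act_one, hwy, mul_one] at h1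
    exact eq_one_of_pow h1.symm
  obtain ⟨B, hB⟩ := exists_of_fix hw (M.act x) (M.act_add hxV) hlin hα (fun z => by
    refine exists_smul_of_dt hw ?_
    have h1 := hdt z
    rw [hδ1, one_mul] at h1
    unfold dt at h1 ⊢
    rw [Pi.sub_apply, Pi.sub_apply]
    linear_combination h1)
  exact ⟨B, by rw [← hB, hα], M.ind_of_act hxV hB⟩

end NatMod

/-- **the bridge**: `V' ≤ Q` a mutual partner of `V`, `Q` a 2-group normalised by `N_G(V) ∩ N_G(R)`, `R = V ∩ V'`: `Q`
induces on `V` exactly the transvections with axis `R`; in particular `C_V(Q) = R` and `[V, Q] ≤ R` -/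
theorem bridge [Finite G] {F F' : Type*} [Field F] [Field F'] [Finite F] [Finite F'] [CharP F 2] [CharP F' 2]
    {V V' : Subgroup G} (M : NatMod F V) (M' : NatMod F' V') (h : Mutual V V') {Q : Subgroup G} (hV'Q : V' ≤ Q)
    (hQV : Q ≤ normalizer (V : Set G)) (hQR : Q ≤ normalizer ((V ⊓ V' : Subgroup G) : Set G)) (hQ : IsPGroup 2 Q)
    (hQn : ∀ g ∈ normalizer (V : Set G), g ∈ normalizer ((V ⊓ V' : Subgroup G) : Set G) → ∀ x ∈ Q, g * x * g⁻¹ ∈ Q) :
    ∃ w, w ≠ 0 ∧ V ⊓ V' = M.line w ∧ Q ≤ M.UW w ∧ (∀ B, ap B w = w → ∃ x ∈ V', M.Ind x B) ∧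
      centralizer (Q : Set G) ⊓ V = V ⊓ V' ∧ ∀ x ∈ Q, ∀ v ∈ V, x * v * x⁻¹ * v⁻¹ ∈ V ⊓ V' := by
  obtain ⟨-, w, w', hw, hw', hl, -⟩ := pair M M' h
  have hU : Q ≤ M.UW w := M.lin_of_torus hw.ne hQV (by rwa [← hl]) hQ (by rw [← hl]; exact hQn)
  refine ⟨w, hw.ne, hl, hU, hw.full, ?_, ?_⟩
  · apply le_antisymm
    · rw [hl, ← hw.cent]
      exact inf_le_inf_right _ (centralizer_le hV'Q)
    · rw [hl]
      rintro _ ⟨c, rfl⟩
      refine mem_inf.2 ⟨mem_centralizer_iff.2 ?_, M.e_mem _⟩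
      intro x hx
      obtain ⟨B, hB, hB'⟩ := hU hx
      rw [M.commute_e (hQV hx), M.act_of_ind hB', ap_smul, hB]
  · intro x hx v hv
    obtain ⟨B, hB, hB'⟩ := hU hx
    obtain ⟨b, hb, hb'⟩ := hw.full B hB
    have h1 : x * v * x⁻¹ = b * v * b⁻¹ := by
      obtain ⟨y, rfl⟩ := (M.mem_iff v).1 hv
      rw [hB' y, hb' y]
    rw [h1, hl]
    exact hw.comm b hb v hv

end Cfsg.Agent.Omega.NatPair

end

section


/-!
# Natural `SL₂(q)`-modules relative to a subgroup `N ≤ N_G(V)`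

`RMod F V N` (`N ≤ N_G(V)`, `C_G(V) ≤ N`): the subgroup `V` of `G` is identified with `F²` in such a way that `N / C_G(V)` has
the normal subgroup `SL₂(F)` (for `q = 4` this may be false for all of `N_G(V)`: `A₇` on `2⁴`).

The same statements as in `NatPair.{Mod, Quad, Pair, Bridge}`, with `N` in place of `N_G(V)`.
-/

set_option autoImplicit false
set_option linter.unusedSectionVars false

namespace Cfsg.Agent.Omega.Mix

open Subgroup Cfsg.Agent.Lib.SL2Mat
open Cfsg.Agent.Omega.NatPair (ap ap_zero' ap_one' ap_mul ap_one ap_add ap_smul ap_inv_ap ap_ap_inv ap_inj exists_ap_e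
  exists_ap ap_up_e ext2 exists_ringEquiv card_ringAut_lt exists_of_fix dt dt_add dt_smul exists_smul_of_dt exists_comb
  fix_all cj mem_cj cj_mul cj_one cj_eq_iff mem_normalizer_cj sq_of_fix eq_one_of_pow)

variable {G : Type*} [Group G]

/-- `V` is the natural module `F²` for a normal subgroup `SL₂(F)` of `N / C_G(V)` -/
structure RMod (F : Type*) [Field F] (V N : Subgroup G) where
  e : (Fin 2 → F) → G
  e_add : ∀ x y, e (x + y) = e x * e y
  e_inj : Function.Injective e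
  mem_iff : ∀ g, g ∈ V ↔ ∃ x, e x = g
  le : N ≤ normalizer (V : Set G)
  cent : centralizer (V : Set G) ≤ N
  lift' : ∀ A : Matrix.SpecialLinearGroup (Fin 2) F, ∃ g ∈ N, ∀ x, g * e x * g⁻¹ = e (ap A x)
  norm : ∀ g ∈ N, ∀ (h : G) (A : Matrix.SpecialLinearGroup (Fin 2) F),
    (∀ x, h * e x * h⁻¹ = e (ap A x)) → ∃ B : Matrix.SpecialLinearGroup (Fin 2) F,
      ∀ x, g * h * g⁻¹ * e x * (g * h * g⁻¹)⁻¹ = e (ap B x)

namespace RMod

variable {F : Type*} [Field F] {V N : Subgroup G} (M : RMod F V N)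

/-- `h` acts as `A` on `V` -/
def Ind (h : G) (A : Matrix.SpecialLinearGroup (Fin 2) F) : Prop := ∀ x, h * M.e x * h⁻¹ = M.e (ap A x)

theorem e_zero : M.e 0 = 1 := by
  have := M.e_add 0 0
  rw [add_zero] at this
  exact left_eq_mul.1 this

theorem e_neg (x : Fin 2 → F) : M.e (-x) = (M.e x)⁻¹ := by
  rw [eq_inv_iff_mul_eq_one, ← M.e_add, neg_add_cancel, M.e_zero]

theorem e_sub (x y : Fin 2 → F) : M.e (x - y) = M.e x * (M.e y)⁻¹ := by
  rw [sub_eq_add_neg, M.e_add, M.e_neg]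

theorem e_eq_one {x : Fin 2 → F} : M.e x = 1 ↔ x = 0 := by
  rw [← M.e_zero]
  exact M.e_inj.eq_iff

theorem e_mem (x : Fin 2 → F) : M.e x ∈ V := (M.mem_iff _).2 ⟨x, rfl⟩

include M in
theorem comm {v w : G} (hv : v ∈ V) (hw : w ∈ V) : v * w = w * v := by
  obtain ⟨x, rfl⟩ := (M.mem_iff v).1 hv
  obtain ⟨y, rfl⟩ := (M.mem_iff w).1 hw
  rw [← M.e_add, ← M.e_add, add_comm]

include M in
theorem sq [CharP F 2] {v : G} (hv : v ∈ V) : v * v = 1 := by
  obtain ⟨x, rfl⟩ := (M.mem_iff v).1 hv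
  rw [← M.e_add, show x + x = 0 from funext fun i => CharTwo.add_self_eq_zero (x i), M.e_zero]

include M in
theorem card_V : Nat.card V = Nat.card F ^ 2 := by
  have h1 : Nat.card (Fin 2 → F) = Nat.card V := by
    refine Nat.card_congr (Equiv.ofBijective (fun x => ⟨M.e x, M.e_mem x⟩) ⟨?_, ?_⟩)
    · intro x y h
      exact M.e_inj (congrArg Subtype.val h)
    · rintro ⟨v, hv⟩
      obtain ⟨x, rfl⟩ := (M.mem_iff v).1 hv
      exact ⟨x, rfl⟩
  rw [← h1]
  simp [Nat.card_fun]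

/-- the action of `g ∈ N_G(V)` on `F²` -/
noncomputable def act (g : G) (x : Fin 2 → F) : Fin 2 → F :=
  open Classical in if h : ∃ y, M.e y = g * M.e x * g⁻¹ then h.choose else x

theorem e_act {g : G} (hg : g ∈ N) (x : Fin 2 → F) : M.e (M.act g x) = g * M.e x * g⁻¹ := by
  have h : ∃ y, M.e y = g * M.e x * g⁻¹ := (M.mem_iff _).1 ((mem_normalizer_iff.1 (M.le hg) _).1 (M.e_mem x))
  rw [act, dif_pos h]
  exact h.choose_spec

theorem act_add {g : G} (hg : g ∈ N) (x y : Fin 2 → F) :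
    M.act g (x + y) = M.act g x + M.act g y := by
  apply M.e_inj
  rw [M.e_add, M.e_act hg, M.e_act hg, M.e_act hg, M.e_add]; group

theorem act_mul {g h : G} (hg : g ∈ N) (hh : h ∈ N) (x : Fin 2 → F) :
    M.act (g * h) x = M.act g (M.act h x) := by
  apply M.e_inj
  rw [M.e_act hg, M.e_act hh, M.e_act (mul_mem hg hh)]; group

theorem act_one (x : Fin 2 → F) : M.act 1 x = x := by
  apply M.e_inj
  rw [M.e_act (one_mem _)]; group

theorem act_inv_act {g : G} (hg : g ∈ N) (x : Fin 2 → F) : M.act g⁻¹ (M.act g x) = x := by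
  rw [← M.act_mul (inv_mem hg) hg, inv_mul_cancel, M.act_one]

theorem act_act_inv {g : G} (hg : g ∈ N) (x : Fin 2 → F) : M.act g (M.act g⁻¹ x) = x := by
  rw [← M.act_mul hg (inv_mem hg), mul_inv_cancel, M.act_one]

theorem act_sub {g : G} (hg : g ∈ N) (x y : Fin 2 → F) :
    M.act g (x - y) = M.act g x - M.act g y := by
  have := M.act_add hg (x - y) y
  rw [sub_add_cancel] at this
  rw [this, add_sub_cancel_right]

theorem lift (A : Matrix.SpecialLinearGroup (Fin 2) F) : ∃ g, ∀ x, g * M.e x * g⁻¹ = M.e (ap A x) := by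
  obtain ⟨g, -, hg⟩ := M.lift' A
  exact ⟨g, hg⟩

theorem mem_normalizer {h : G} {A : Matrix.SpecialLinearGroup (Fin 2) F} (hA : M.Ind h A) : h ∈ N := by
  obtain ⟨g, hgN, hg⟩ := M.lift' A
  have h1 : g⁻¹ * h ∈ centralizer (V : Set G) := by
    rw [mem_centralizer_iff]
    intro v hv
    obtain ⟨x, rfl⟩ := (M.mem_iff v).1 hv
    have h2 : h * M.e x * h⁻¹ = g * M.e x * g⁻¹ := by rw [hA, hg]
    have h3 : h * M.e x = g * M.e x * g⁻¹ * h := by rw [← h2]; group
    calc M.e x * (g⁻¹ * h) = g⁻¹ * (g * M.e x * g⁻¹ * h) := by group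
      _ = g⁻¹ * (h * M.e x) := by rw [← h3]
      _ = g⁻¹ * h * M.e x := by group
  have h2 := mul_mem hgN (M.cent h1)
  rwa [mul_inv_cancel_left] at h2

theorem act_of_ind {h : G} {A : Matrix.SpecialLinearGroup (Fin 2) F} (hA : M.Ind h A) (x : Fin 2 → F) :
    M.act h x = ap A x := by
  apply M.e_inj
  rw [M.e_act (M.mem_normalizer hA), hA]

theorem ind_of_act {h : G} (hh : h ∈ N) {A : Matrix.SpecialLinearGroup (Fin 2) F}
    (hA : ∀ x, M.act h x = ap A x) : M.Ind h A := fun x => by rw [← M.e_act hh, hA]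

/-- the elements of `N_G(V)` act semilinearly -/
theorem exists_semi [Finite F] {g : G} (hg : g ∈ N) :
    ∃ s : F ≃+* F, ∀ (c : F) x, M.act g (c • x) = s c • M.act g x := by
  obtain ⟨σ, hσ⟩ := Cfsg.Agent.Omega.NatPair.exists_semi (M.act g) (M.act g⁻¹) (M.act_add hg) (M.act_inv_act hg) (M.act_act_inv hg)
    (by
      intro A
      obtain ⟨h, hA⟩ := M.lift A
      obtain ⟨B, hB⟩ := M.norm g⁻¹ (inv_mem hg) h A hA
      refine ⟨B, fun x => ?_⟩
      have h1 : h ∈ N := M.mem_normalizer hA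
      have h2 : M.Ind (g⁻¹ * h * g⁻¹⁻¹) B := hB
      rw [← M.act_of_ind h2, inv_inv, M.act_mul (mul_mem (inv_mem hg) h1) hg, M.act_mul (inv_mem hg) h1,
        M.act_of_ind hA])
  exact exists_ringEquiv (M.act g) (M.act g⁻¹) (M.act_add hg) (M.act_inv_act hg) σ hσ

/-- the field automorphism of `g` -/
noncomputable def sg [Finite F] (g : N) : F ≃+* F := (M.exists_semi g.2).choose

theorem sg_spec [Finite F] (g : N) (c : F) (x : Fin 2 → F) :
    M.act g (c • x) = M.sg g c • M.act g x := (M.exists_semi g.2).choose_spec c x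

theorem act_ne_zero {g : G} (hg : g ∈ N) {x : Fin 2 → F} (hx : x ≠ 0) : M.act g x ≠ 0 := by
  intro h
  apply hx
  have h1 := M.act_inv_act hg x
  rw [h] at h1
  rw [← h1]
  apply M.e_inj
  rw [M.e_act (inv_mem hg), M.e_zero]; group

theorem sg_eq [Finite F] {g : N} {s : F ≃+* F}
    (h : ∀ (c : F) x, M.act g (c • x) = s c • M.act g x) : M.sg g = s := by
  ext c
  have hw : (![1, 0] : Fin 2 → F) ≠ 0 := by
    intro h
    have := congrFun h 0
    simp at this
  have h1 := M.sg_spec g c ![1, 0]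
  rw [h] at h1
  exact (smul_left_injective F (M.act_ne_zero g.2 hw) h1).symm

/-- the homomorphism `N_G(V) → Aut F` -/
noncomputable def sgHom [Finite F] : N →* RingAut F where
  toFun := M.sg
  map_one' := by
    apply M.sg_eq
    intro c x
    show M.act 1 (c • x) = c • M.act 1 x
    rw [M.act_one, M.act_one]
  map_mul' g h := by
    apply M.sg_eq
    intro c x
    show M.act ((g : G) * h) (c • x) = M.sg g (M.sg h c) • M.act ((g : G) * h) x
    rw [M.act_mul g.2 h.2, M.act_mul g.2 h.2, M.sg_spec, M.sg_spec]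

/-- the line of the vector `w` -/
def line (w : Fin 2 → F) : Subgroup G where
  carrier := {g | ∃ c : F, M.e (c • w) = g}
  mul_mem' := by
    rintro _ _ ⟨c, rfl⟩ ⟨d, rfl⟩
    exact ⟨c + d, by rw [add_smul, M.e_add]⟩
  one_mem' := ⟨0, by rw [zero_smul, M.e_zero]⟩
  inv_mem' := by
    rintro _ ⟨c, rfl⟩
    exact ⟨-c, by rw [neg_smul, M.e_neg]⟩

theorem mem_line {w : Fin 2 → F} {g : G} : g ∈ M.line w ↔ ∃ c : F, M.e (c • w) = g := Iff.rfl

theorem line_le (w : Fin 2 → F) : M.line w ≤ V := by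
  rintro _ ⟨c, rfl⟩
  exact M.e_mem _

theorem e_mem_line {w x : Fin 2 → F} : M.e x ∈ M.line w ↔ ∃ c : F, x = c • w := by
  constructor
  · rintro ⟨c, hc⟩
    exact ⟨c, (M.e_inj hc).symm⟩
  · rintro ⟨c, rfl⟩
    exact ⟨c, rfl⟩

theorem card_line {w : Fin 2 → F} (hw : w ≠ 0) : Nat.card (M.line w) = Nat.card F := by
  refine (Nat.card_congr (Equiv.ofBijective (fun c : F => (⟨M.e (c • w), c, rfl⟩ : M.line w)) ⟨?_, ?_⟩)).symm
  · intro c d h
    exact smul_left_injective F hw (M.e_inj (congrArg Subtype.val h))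
  · rintro ⟨_, c, rfl⟩
    exact ⟨c, rfl⟩

theorem commute_e {g : G} (hg : g ∈ N) {x : Fin 2 → F} :
    g * M.e x = M.e x * g ↔ M.act g x = x := by
  rw [← M.e_inj.eq_iff, M.e_act hg, mul_inv_eq_iff_eq_mul]

end RMod

/-- the conclusion on a quadratic offender -/
structure RMod.Quad {F : Type*} [Field F] {V N : Subgroup G} (M : RMod F V N) (A : Subgroup G) (w : Fin 2 → F) :
    Prop where
  ne : w ≠ 0
  lin : ∀ a ∈ A, ∃ B, ap B w = w ∧ M.Ind a B
  full : ∀ B, ap B w = w → ∃ a ∈ A, M.Ind a B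
  cent : centralizer (A : Set G) ⊓ V = M.line w
  card : (centralizer (V : Set G)).relIndex A = Nat.card F
  index : (centralizer (A : Set G)).relIndex V = Nat.card F
  comm : ∀ a ∈ A, ∀ v ∈ V, a * v * a⁻¹ * v⁻¹ ∈ M.line w
  comm' : ∀ r ∈ M.line w, ∃ a ∈ A, ∃ v ∈ V, a * v * a⁻¹ * v⁻¹ = r


namespace RMod

variable {F : Type*} [Field F] {V N : Subgroup G} (M : RMod F V N)

/-- the vectors fixed by `A` -/
theorem card_fix (A : Subgroup G) : Nat.card {x : Fin 2 → F // ∀ a ∈ A, a * M.e x = M.e x * a} *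
    (centralizer (A : Set G)).relIndex V = Nat.card F ^ 2 := by
  have h1 : Nat.card {x : Fin 2 → F // ∀ a ∈ A, a * M.e x = M.e x * a} =
      Nat.card ((centralizer (A : Set G)).subgroupOf V) := by
    refine Nat.card_congr (Equiv.ofBijective
      (fun x => ⟨⟨M.e x.1, M.e_mem _⟩, mem_subgroupOf.2 (mem_centralizer_iff.2 fun a ha => x.2 a ha)⟩) ⟨?_, ?_⟩)
    · intro x y h
      exact Subtype.ext (M.e_inj (congrArg (fun z => ((z : (centralizer (A : Set G)).subgroupOf V) : V).1) h))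
    · rintro ⟨⟨v, hv⟩, hv'⟩
      obtain ⟨x, rfl⟩ := (M.mem_iff v).1 hv
      exact ⟨⟨x, fun a ha => mem_centralizer_iff.1 (mem_subgroupOf.1 hv') a ha⟩, rfl⟩
  rw [h1, relIndex, Subgroup.card_mul_index, M.card_V]

/-- an element of `N_G(V)` with nontrivial field automorphism fixes at most `q` vectors -/
theorem card_fix_le [Finite F] {a : G} (ha : a ∈ N) {s : F ≃+* F}
    (hs : ∀ (c : F) x, M.act a (c • x) = s c • M.act a x) {c : F} (hc : s c ≠ c) {X : Set (Fin 2 → F)}
    (hX : ∀ x ∈ X, M.act a x = x) : Nat.card X ≤ Nat.card F := by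
  have hinj : Function.Injective (fun p : X × X => (p.1.1 + c • p.2.1 : Fin 2 → F)) := by
    rintro ⟨⟨x, hx⟩, ⟨y, hy⟩⟩ ⟨⟨x', hx'⟩, ⟨y', hy'⟩⟩ h
    have h1 : x + c • y = x' + c • y' := h
    have h2 := congrArg (M.act a) h1
    rw [M.act_add ha, M.act_add ha, hs, hs, hX x hx, hX y hy, hX x' hx', hX y' hy'] at h2
    have h3 : (s c - c) • (y - y') = 0 := by
      have e1 : x = x' + c • y' - c • y := by rw [← h1]; abel
      rw [e1] at h2
      have e2 : c • y' - c • y + s c • y = s c • y' := by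
        have : x' + (c • y' - c • y + s c • y) = x' + s c • y' := by rw [← h2]; abel
        exact add_left_cancel this
      rw [sub_smul, smul_sub, smul_sub]
      have e3 : s c • y - c • y = s c • y' - c • y' := by
        rw [← e2]; abel
      have e4 : s c • y - s c • y' - (c • y - c • y') = (s c • y - c • y) - (s c • y' - c • y') := by abel
      rw [e4, e3, sub_self]
    rcases smul_eq_zero.1 h3 with h4 | h4
    · exact absurd (sub_eq_zero.1 h4) hc
    · have h5 : y = y' := sub_eq_zero.1 h4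
      subst h5
      have h6 : x = x' := add_right_cancel h1
      subst h6
      rfl
  have h1 := Nat.card_le_card_of_injective _ hinj
  rw [Nat.card_prod] at h1
  have h2 : Nat.card (Fin 2 → F) = Nat.card F * Nat.card F := by simp [Nat.card_fun, pow_two]
  rw [h2] at h1
  by_contra hcon
  push Not at hcon
  have := Nat.mul_lt_mul_of_lt_of_le hcon hcon.le (lt_of_le_of_lt (Nat.zero_le _) hcon)
  omega

/-- **quadratic offenders on a natural module** -/
theorem quad_ff [Finite G] [Finite F] [CharP F 2] {A : Subgroup G} (hA : A ≤ N)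
    (hne : ∃ a ∈ A, ∃ v ∈ V, a * v ≠ v * a)
    (hq : ∀ a ∈ A, ∀ b ∈ A, ∀ v ∈ V, b * (a * v * a⁻¹ * v⁻¹) = (a * v * a⁻¹ * v⁻¹) * b)
    (hoff : (centralizer (A : Set G)).relIndex V ≤ (centralizer (V : Set G)).relIndex A) :
    ∃ w, M.Quad A w := by
  have hadd := fun {a : G} (ha : a ∈ A) => M.act_add (hA ha)
  -- commutators
  have hcomm : ∀ a ∈ A, ∀ x, a * M.e x * a⁻¹ * (M.e x)⁻¹ = M.e (M.act a x - x) := by
    intro a ha x
    rw [M.e_sub, M.e_act (hA ha)]
  have hquad : ∀ a ∈ A, ∀ b ∈ A, ∀ x, M.act b (M.act a x - x) = M.act a x - x := by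
    intro a ha b hb x
    rw [← M.commute_e (hA hb), ← hcomm a ha]
    exact hq a ha b hb _ (M.e_mem x)
  have hcardpos : 0 < Nat.card F := Nat.card_pos
  by_cases hlin : ∃ a ∈ A, (∃ x, M.act a x ≠ x) ∧ ∀ (c : F) x, M.act a (c • x) = c • M.act a x
  · obtain ⟨a, ha, ⟨y, hy⟩, hal⟩ := hlin
    set w := M.act a y - y with hw
    have hw0 : w ≠ 0 := fun h => hy (sub_eq_zero.1 h)
    have hline : ∀ (c : F), ∀ b ∈ A, M.act b (c • w) = c • w := by
      intro c b hb
      have h1 := hquad a ha b hb (c • y)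
      rwa [hal, ← smul_sub, ← hw] at h1
    have hfix1 : ∀ b ∈ A, M.act b w = w := by
      intro b hb
      have := hline 1 b hb
      rwa [one_smul] at this
    have hbl : ∀ b ∈ A, ∀ (c : F) x, M.act b (c • x) = c • M.act b x := by
      intro b hb c x
      obtain ⟨s, hs⟩ := M.exists_semi (hA hb)
      have h1 : ∀ d : F, s d = d := by
        intro d
        have h2 := hline d b hb
        rw [hs, hfix1 b hb] at h2
        exact smul_left_injective F hw0 h2
      rw [hs, h1]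
    have hfixa : ∀ x, M.act a x = x → ∃ c : F, x = c • w := by
      intro x hx
      by_contra hcon
      have h1 : dt w x ≠ 0 := fun h => hcon (exists_smul_of_dt hw0 h)
      exact hy (fix_all h1 (M.act a) (hadd ha) hal (hfix1 a ha) hx y)
    have hlin : ∀ b ∈ A, ∃ B, ap B w = w ∧ M.Ind b B := by
      intro b hb
      obtain ⟨B, hB⟩ := exists_of_fix hw0 (M.act b) (hadd hb) (hbl b hb) (hfix1 b hb) (fun z => by
        obtain ⟨c, hc⟩ := hfixa (M.act b z - z) (hquad b hb a ha z)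
        exact ⟨c, hc⟩)
      exact ⟨B, by rw [← hB, hfix1 b hb], M.ind_of_act (hA hb) hB⟩
    -- the fixed points
    have hfix : ∀ x, (∀ b ∈ A, b * M.e x = M.e x * b) ↔ ∃ c : F, x = c • w := by
      intro x
      constructor
      · intro h
        exact hfixa x ((M.commute_e (hA ha)).1 (h a ha))
      · rintro ⟨c, rfl⟩ b hb
        exact (M.commute_e (hA hb)).2 (hline c b hb)
    have hcent : centralizer (A : Set G) ⊓ V = M.line w := by
      ext g
      rw [mem_inf]
      constructor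
      · rintro ⟨h1, h2⟩
        obtain ⟨x, rfl⟩ := (M.mem_iff g).1 h2
        rw [M.e_mem_line, ← hfix]
        exact fun b hb => mem_centralizer_iff.1 h1 b hb
      · rintro ⟨c, rfl⟩
        refine ⟨mem_centralizer_iff.2 ?_, M.e_mem _⟩
        exact (hfix _).2 ⟨c, rfl⟩
    have hidx : (centralizer (A : Set G)).relIndex V = Nat.card F := by
      have h1 := M.card_fix A
      have h2 : Nat.card {x : Fin 2 → F // ∀ a ∈ A, a * M.e x = M.e x * a} = Nat.card F := by
        rw [← M.card_line hw0]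
        refine Nat.card_congr (Equiv.ofBijective (fun x => ⟨M.e x.1, M.e_mem_line.2 ((hfix _).1 x.2)⟩) ⟨?_, ?_⟩)
        · intro x y h
          exact Subtype.ext (M.e_inj (congrArg Subtype.val h))
        · rintro ⟨_, c, rfl⟩
          exact ⟨⟨c • w, (hfix _).2 ⟨c, rfl⟩⟩, rfl⟩
      rw [h2, pow_two] at h1
      exact Nat.eq_of_mul_eq_mul_left hcardpos h1
    -- the transvections
    choose! τ hτ1 hτ2 using hlin
    obtain ⟨D, hD⟩ := exists_ap_e hw0
    let y₀ : Fin 2 → F := ap D ![0, 1]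
    have hy₀ : dt w y₀ ≠ 0 := by
      have h1 := det_eq D
      rw [← hD]
      show dt (ap D ![1, 0]) (ap D ![0, 1]) ≠ 0
      unfold dt
      rw [ap_zero', ap_zero', ap_one', ap_one']
      simp only [Matrix.cons_val_zero, Matrix.cons_val_one, mul_one, mul_zero, add_zero, zero_add]
      intro h2
      rw [show ent D 0 0 * ent D 1 1 - ent D 1 0 * ent D 0 1 = ent D 0 0 * ent D 1 1 - ent D 0 1 * ent D 1 0 by ring,
        h1] at h2
      exact one_ne_zero h2
    have hmove : ∀ B, ap B w = w → ∃ c : F, ap B y₀ - y₀ = c • w := by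
      intro B hB
      have h1 : dt w (ap B y₀ - y₀) = 0 := by
        have h2 : dt (ap B w) (ap B y₀) = dt w y₀ := by
          unfold dt
          rw [ap_zero', ap_zero', ap_one', ap_one']
          linear_combination (w 0 * y₀ 1 - w 1 * y₀ 0) * det_eq B
        rw [hB] at h2
        unfold dt at h2 ⊢
        rw [Pi.sub_apply, Pi.sub_apply]
        linear_combination h2
      exact exists_smul_of_dt hw0 h1
    have hdet : ∀ B B', ap B w = w → ap B' w = w → ap B y₀ = ap B' y₀ → B = B' := by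
      intro B B' h1 h2 h3
      apply ap_inj
      intro x
      obtain ⟨α, β, rfl⟩ := exists_comb hy₀ x
      rw [ap_add, ap_add, ap_smul, ap_smul, ap_smul, ap_smul, h1, h2, h3]
    have hcv : ∀ b ∈ A, (∀ v ∈ V, b * v = v * b) ↔ M.act b y₀ = y₀ := by
      intro b hb
      rw [← M.commute_e (hA hb)]
      constructor
      · intro h
        exact h _ (M.e_mem _)
      · intro h v hv
        obtain ⟨x, rfl⟩ := (M.mem_iff v).1 hv
        rw [M.commute_e (hA hb)] at h ⊢
        exact fix_all hy₀ (M.act b) (hadd hb) (hbl b hb) (hfix1 b hb) h x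
    -- the map `A → F`
    have hcoord : ∀ b ∈ A, ∃ c : F, M.act b y₀ - y₀ = c • w := by
      intro b hb
      obtain ⟨c, hc⟩ := hmove _ (hτ1 b hb)
      exact ⟨c, by rw [M.act_of_ind (hτ2 b hb), hc]⟩
    choose! κ hκ using hcoord
    let K := (centralizer (V : Set G)).subgroupOf A
    have hKiff : ∀ b b' : A, (QuotientGroup.mk b : A ⧸ K) = QuotientGroup.mk b' ↔ κ b = κ b' := by
      intro b b'
      rw [QuotientGroup.eq, mem_subgroupOf, mem_centralizer_iff]
      have hbb : (b : G)⁻¹ * b' ∈ A := mul_mem (inv_mem b.2) b'.2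
      have h1 : (∀ v ∈ (V : Set G), v * (((b⁻¹ * b' : A) : G)) = ((b⁻¹ * b' : A) : G) * v) ↔
          (∀ v ∈ V, ((b : G)⁻¹ * b') * v = v * ((b : G)⁻¹ * b')) :=
        ⟨fun h v hv => (h v hv).symm, fun h v hv => (h v hv).symm⟩
      rw [h1, hcv _ hbb, M.act_mul (inv_mem (hA b.2)) (hA b'.2)]
      have h2 : M.act (b : G)⁻¹ (M.act b' y₀) = y₀ ↔ M.act b' y₀ = M.act b y₀ := by
        constructor
        · intro h
          have := M.act_act_inv (hA b.2) (M.act b' y₀)
          rw [h] at this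
          exact this.symm
        · intro h
          rw [h, M.act_inv_act (hA b.2)]
      rw [h2]
      constructor
      · intro h
        have e1 := hκ b b.2
        rw [← h, hκ b' b'.2] at e1
        exact (smul_left_injective F hw0 e1).symm
      · intro h
        have e1 := hκ b b.2
        rw [h, ← hκ b' b'.2] at e1
        exact (sub_left_injective e1).symm
    let κ' : A ⧸ K → F := fun q => κ q.out
    have hκ' : ∀ b : A, κ' (QuotientGroup.mk b) = κ b := by
      intro b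
      exact (hKiff _ _).1 (QuotientGroup.out_eq' _)
    have hκinj : Function.Injective κ' := by
      intro q q' h
      have h1 := (hKiff q.out q'.out).2 h
      rwa [QuotientGroup.out_eq', QuotientGroup.out_eq'] at h1
    have hcle : (centralizer (V : Set G)).relIndex A ≤ Nat.card F := by
      have := Nat.card_le_card_of_injective _ hκinj
      exact this
    have hceq : (centralizer (V : Set G)).relIndex A = Nat.card F := by
      rw [hidx] at hoff
      omega
    have hκbij : Function.Bijective κ' := by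
      have : Nat.card (A ⧸ K) = Nat.card F := hceq
      exact (Nat.bijective_iff_injective_and_card _).2 ⟨hκinj, this⟩
    have hsurj : ∀ c : F, ∃ b ∈ A, M.act b y₀ - y₀ = c • w := by
      intro c
      obtain ⟨q, hq'⟩ := hκbij.2 c
      refine ⟨(q.out : A), (q.out : A).2, ?_⟩
      rw [← hq', hκ _ (q.out : A).2]
    refine ⟨w, hw0, fun b hb => ⟨τ b, hτ1 b hb, hτ2 b hb⟩, ?_, hcent, hceq, hidx, ?_, ?_⟩
    · intro B hB
      obtain ⟨c, hc⟩ := hmove B hB
      obtain ⟨b, hb, hb'⟩ := hsurj c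
      refine ⟨b, hb, ?_⟩
      have h1 : τ b = B := by
        apply hdet _ _ (hτ1 b hb) hB
        rw [← M.act_of_ind (hτ2 b hb)]
        have h2 : M.act b y₀ - y₀ = ap B y₀ - y₀ := by rw [hb', hc]
        exact sub_left_injective h2
      rw [← h1]
      exact hτ2 b hb
    · intro b hb v hv
      obtain ⟨x, rfl⟩ := (M.mem_iff v).1 hv
      rw [hcomm b hb, M.e_mem_line]
      exact hfixa _ (hquad b hb a ha x)
    · rintro _ ⟨c, rfl⟩
      obtain ⟨b, hb, hb'⟩ := hsurj c
      exact ⟨b, hb, M.e y₀, M.e_mem _, by rw [hcomm b hb, hb']⟩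
  · -- no nontrivial linear element
    exfalso
    push Not at hlin
    obtain ⟨a, ha, v, hv, hav⟩ := hne
    obtain ⟨x, rfl⟩ := (M.mem_iff v).1 hv
    have hax : M.act a x ≠ x := fun h => hav ((M.commute_e (hA ha)).2 h)
    have hfield : ∀ b ∈ A, ∀ s : F ≃+* F, (∀ (c : F) x, M.act b (c • x) = s c • M.act b x) → (∃ x, M.act b x ≠ x) →
        ∃ c : F, s c ≠ c := by
      intro b hb s hs hbx
      by_contra hcon
      push Not at hcon
      obtain ⟨c, x, hcx⟩ := hlin b hb hbx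
      apply hcx
      rw [hs, hcon]
    obtain ⟨s, hs⟩ := M.exists_semi (hA ha)
    obtain ⟨c, hc⟩ := hfield a ha s hs ⟨x, hax⟩
    have h1 := M.card_fix A
    have h2 : Nat.card {x : Fin 2 → F // ∀ a ∈ A, a * M.e x = M.e x * a} ≤ Nat.card F := by
      refine M.card_fix_le (hA ha) hs hc (X := {x | ∀ a ∈ A, a * M.e x = M.e x * a}) ?_
      intro x hx
      exact (M.commute_e (hA ha)).1 (hx a ha)
    have h3 : Nat.card F ≤ (centralizer (A : Set G)).relIndex V := by
      by_contra hcon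
      push Not at hcon
      have : Nat.card {x : Fin 2 → F // ∀ a ∈ A, a * M.e x = M.e x * a} * (centralizer (A : Set G)).relIndex V <
          Nat.card F * Nat.card F := by
        calc _ ≤ Nat.card F * (centralizer (A : Set G)).relIndex V := Nat.mul_le_mul_right _ h2
          _ < _ := Nat.mul_lt_mul_of_pos_left hcon hcardpos
      rw [h1, pow_two] at this
      exact lt_irrefl _ this
    -- the order of the image
    let f : A →* RingAut F := M.sgHom.comp (inclusion hA)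
    have hker : f.ker ≤ (centralizer (V : Set G)).subgroupOf A := by
      intro b hb
      rw [mem_subgroupOf, mem_centralizer_iff]
      intro v hv
      obtain ⟨x, rfl⟩ := (M.mem_iff v).1 hv
      symm
      rw [M.commute_e (hA b.2)]
      by_contra hcon
      have hb1 : M.sg ⟨b, hA b.2⟩ = 1 := hb
      obtain ⟨c, hc⟩ := hfield b b.2 (M.sg ⟨b, hA b.2⟩) (fun c x => M.sg_spec ⟨b, hA b.2⟩ c x) ⟨x, hcon⟩
      apply hc
      rw [hb1]; rfl
    have h4 : (centralizer (V : Set G)).relIndex A ≤ Nat.card (F ≃+* F) := by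
      have h5 : ((centralizer (V : Set G)).subgroupOf A).index ∣ f.ker.index := Subgroup.index_dvd_of_le hker
      have h6 : f.ker.index ≤ Nat.card (RingAut F) := by
        rw [Subgroup.index_ker]
        have : Finite (RingAut F) := Finite.of_injective (fun e : F ≃+* F => (e : F → F)) DFunLike.coe_injective
        exact Nat.card_le_card_of_injective _ (Subtype.val_injective (p := fun x => x ∈ f.range))
      have h7 : 0 < f.ker.index := Nat.pos_of_ne_zero Subgroup.index_ne_zero_of_finite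
      exact (Nat.le_of_dvd h7 h5).trans h6
    have h5 := card_ringAut_lt F
    omega


end RMod

end Cfsg.Agent.Omega.Mix

end

section


/-!
# `V = F²` and `N_G(V)` induces at least `SL₂(F)`  (`PreMod`, = `NatMod` without normality)

* `PreMod.toNatMod`: the `SL₂(F)` is normal;
* `PreMod.Exc`: the exceptional alternative of LEMMA NORM (bb OMEGA #12618; `A₇` on `2⁴`);
* LEMMA NORM itself is `PreMod.dich` in `Omega.NatPair.Norm`.
-/

set_option autoImplicit false
set_option linter.unusedSectionVars false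

namespace Cfsg.Agent.Omega.NatPair

open Subgroup Cfsg.Agent.Lib.SL2Mat

variable {G : Type*} [Group G]

/-- `V` is `F²` and `N_G(V)` induces at least `SL₂(F)` -/
structure PreMod (F : Type*) [Field F] (V : Subgroup G) where
  e : (Fin 2 → F) → G
  e_add : ∀ x y, e (x + y) = e x * e y
  e_inj : Function.Injective e
  mem_iff : ∀ g, g ∈ V ↔ ∃ x, e x = g
  lift : ∀ A : Matrix.SpecialLinearGroup (Fin 2) F, ∃ g, ∀ x, g * e x * g⁻¹ = e (ap A x)

/-- forget that `SL₂(F)` is normal -/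
def NatMod.toPreMod {F : Type*} [Field F] {V : Subgroup G} (M : NatMod F V) : PreMod F V :=
  { e := M.e, e_add := M.e_add, e_inj := M.e_inj, mem_iff := M.mem_iff, lift := M.lift }

namespace PreMod

variable {F : Type*} [Field F] {V : Subgroup G} (M : PreMod F V)

/-- `h` acts as `A` on `V` -/
def Ind (h : G) (A : Matrix.SpecialLinearGroup (Fin 2) F) : Prop := ∀ x, h * M.e x * h⁻¹ = M.e (ap A x)

/-- `g` normalises the `SL₂(F)` -/
def Nm (g : G) : Prop := ∀ (h : G) (A : Matrix.SpecialLinearGroup (Fin 2) F), M.Ind h A →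
  ∃ B : Matrix.SpecialLinearGroup (Fin 2) F, M.Ind (g * h * g⁻¹) B

/-- the natural module, if all of `N_G(V)` normalises the `SL₂(F)` -/
def toNatMod (h : ∀ g ∈ normalizer (V : Set G), M.Nm g) : NatMod F V :=
  { e := M.e, e_add := M.e_add, e_inj := M.e_inj, mem_iff := M.mem_iff, lift := M.lift
    norm := fun g hg k A hA => h g hg k A hA }

theorem e_zero : M.e 0 = 1 := by
  have := M.e_add 0 0
  rw [add_zero] at this
  exact left_eq_mul.1 this

theorem e_neg (x : Fin 2 → F) : M.e (-x) = (M.e x)⁻¹ := by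
  rw [eq_inv_iff_mul_eq_one, ← M.e_add, neg_add_cancel, M.e_zero]

theorem e_eq_one {x : Fin 2 → F} : M.e x = 1 ↔ x = 0 := by
  rw [← M.e_zero]
  exact M.e_inj.eq_iff

theorem e_mem (x : Fin 2 → F) : M.e x ∈ V := (M.mem_iff _).2 ⟨x, rfl⟩

include M in
theorem comm {v w : G} (hv : v ∈ V) (hw : w ∈ V) : v * w = w * v := by
  obtain ⟨x, rfl⟩ := (M.mem_iff v).1 hv
  obtain ⟨y, rfl⟩ := (M.mem_iff w).1 hw
  rw [← M.e_add, ← M.e_add, add_comm]

include M in
theorem sq [CharP F 2] {v : G} (hv : v ∈ V) : v * v = 1 := by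
  obtain ⟨x, rfl⟩ := (M.mem_iff v).1 hv
  rw [← M.e_add, show x + x = 0 from funext fun i => CharTwo.add_self_eq_zero (x i), M.e_zero]

include M in
theorem card_V : Nat.card V = Nat.card F ^ 2 := by
  have h1 : Nat.card (Fin 2 → F) = Nat.card V := by
    refine Nat.card_congr (Equiv.ofBijective (fun x => ⟨M.e x, M.e_mem x⟩) ⟨?_, ?_⟩)
    · intro x y h
      exact M.e_inj (congrArg Subtype.val h)
    · rintro ⟨v, hv⟩
      obtain ⟨x, rfl⟩ := (M.mem_iff v).1 hv
      exact ⟨x, rfl⟩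
  rw [← h1]
  simp [Nat.card_fun]

theorem mem_normalizer {h : G} {A : Matrix.SpecialLinearGroup (Fin 2) F} (hA : M.Ind h A) :
    h ∈ normalizer (V : Set G) := by
  rw [mem_normalizer_iff]
  intro n
  constructor
  · intro hn
    obtain ⟨x, rfl⟩ := (M.mem_iff n).1 hn
    rw [hA]; exact M.e_mem _
  · intro hn
    obtain ⟨x, hx⟩ := (M.mem_iff _).1 hn
    refine (M.mem_iff n).2 ⟨ap A⁻¹ x, ?_⟩
    have h1 := hA (ap A⁻¹ x)
    rw [ap_ap_inv, hx] at h1
    have h2 : h⁻¹ * (h * M.e (ap A⁻¹ x) * h⁻¹) * h = h⁻¹ * (h * n * h⁻¹) * h := by rw [h1]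
    simpa [mul_assoc] using h2

theorem Ind.mul {h k : G} {A B : Matrix.SpecialLinearGroup (Fin 2) F} (hA : M.Ind h A) (hB : M.Ind k B) :
    M.Ind (h * k) (A * B) := by
  intro x
  have e1 : h * k * M.e x * (h * k)⁻¹ = h * (k * M.e x * k⁻¹) * h⁻¹ := by group
  rw [e1, hB, hA, ap_mul]

theorem ind_one : M.Ind 1 1 := fun x => by rw [one_mul, inv_one, mul_one, ap_one]

theorem Ind.inv {h : G} {A : Matrix.SpecialLinearGroup (Fin 2) F} (hA : M.Ind h A) : M.Ind h⁻¹ A⁻¹ := by
  intro x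
  have h1 := hA (ap A⁻¹ x)
  rw [ap_ap_inv] at h1
  rw [← h1]; group

theorem Nm.of_ind {g : G} {B : Matrix.SpecialLinearGroup (Fin 2) F} (hg : M.Ind g B) : M.Nm g :=
  fun _ _ hA => ⟨_, (hg.mul M hA).mul M (hg.inv M)⟩

/-- the line of the vector `w` -/
def line (w : Fin 2 → F) : Subgroup G where
  carrier := {g | ∃ c : F, M.e (c • w) = g}
  mul_mem' := by
    rintro _ _ ⟨c, rfl⟩ ⟨d, rfl⟩
    exact ⟨c + d, by rw [add_smul, M.e_add]⟩
  one_mem' := ⟨0, by rw [zero_smul, M.e_zero]⟩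
  inv_mem' := by
    rintro _ ⟨c, rfl⟩
    exact ⟨-c, by rw [neg_smul, M.e_neg]⟩

theorem mem_line {w : Fin 2 → F} {g : G} : g ∈ M.line w ↔ ∃ c : F, M.e (c • w) = g := Iff.rfl

theorem line_le (w : Fin 2 → F) : M.line w ≤ V := by
  rintro _ ⟨c, rfl⟩
  exact M.e_mem _

theorem e_mem_line {w x : Fin 2 → F} : M.e x ∈ M.line w ↔ ∃ c : F, x = c • w := by
  constructor
  · rintro ⟨c, hc⟩
    exact ⟨c, (M.e_inj hc).symm⟩
  · rintro ⟨c, rfl⟩
    exact ⟨c, rfl⟩

theorem card_line {w : Fin 2 → F} (hw : w ≠ 0) : Nat.card (M.line w) = Nat.card F := by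
  refine (Nat.card_congr (Equiv.ofBijective (fun c : F => (⟨M.e (c • w), c, rfl⟩ : M.line w)) ⟨?_, ?_⟩)).symm
  · intro c d h
    exact smul_left_injective F hw (M.e_inj (congrArg Subtype.val h))
  · rintro ⟨_, c, rfl⟩
    exact ⟨c, rfl⟩

/-- **the exceptional alternative of LEMMA NORM** (`|F| = 4`, `A₇` on `2⁴`): the lines are fused with all other subgroups
of order 4 of `V`, and `C_V(S)` has order two -/
structure Exc (S : Subgroup G) : Prop where
  card : Nat.card F = 4
  fuse : ∀ w : Fin 2 → F, w ≠ 0 → ∀ r ∈ M.line w, r ≠ 1 → ∀ v ∈ V, v ∉ M.line w →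
    ∃ g ∈ normalizer (V : Set G), r ∈ cj g (M.line w) ∧ v ∈ cj g (M.line w)
  point : ∃ w : Fin 2 → F, w ≠ 0 ∧ S ≤ normalizer ((M.line w : Subgroup G) : Set G) ∧
    V ⊓ centralizer (S : Set G) ≤ M.line w ∧ Nat.card ↥(V ⊓ centralizer (S : Set G)) = 2

end PreMod

end Cfsg.Agent.Omega.NatPair

end

section


/-!
# LEMMA NORM (bb OMEGA #12618)

`PreMod.dich`: `V = F²`, `N_G(V)` induces at least `SL₂(F)`, a Sylow 2-subgroup `S ≤ N_G(V)` of `G` normalises the
`SL₂(F)`: then `N_G(V)` normalises the `SL₂(F)` or `|F| = 4` and `PreMod.Exc` holds.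
-/

set_option autoImplicit false
set_option linter.unusedSectionVars false

namespace Cfsg.Agent.Omega.NatPair

open Subgroup Cfsg.Agent.Lib.SL2Mat

namespace NormLev.Co

variable {F L V : Type*} [Field F] [Group L] [Group V] [MulDistribMulAction L V] (M : Co F L V)
variable [Finite F] [CharP F 2] [Finite L]

/-- a Sylow 2-subgroup containing the standard root group, with the conjugating element -/
theorem exists_good' (S : Sylow 2 L) (hS : (S : Subgroup L) ≤ normalizer (M.E : Set L)) :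
    ∃ y ∈ normalizer (M.E : Set L), M.Up ≤ ((y • S : Sylow 2 L) : Subgroup L) ∧
      ((y • S : Sylow 2 L) : Subgroup L) ≤ normalizer (M.E : Set L) := by
  have : Fact (Nat.Prime 2) := ⟨Nat.prime_two⟩
  set H : Subgroup L := normalizer (M.E : Set L) with hH
  have hUH : M.Up ≤ H := M.Up_le.trans le_normalizer
  have hp : IsPGroup 2 (M.Up.subgroupOf H) := M.isPGroup_Up.of_equiv (subgroupOfEquivOfLe hUH).symm
  obtain ⟨Q, hQ⟩ := hp.exists_le_sylow
  obtain ⟨h, hh⟩ := MulAction.exists_smul_eq H (S.subtype hS) Q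
  refine ⟨(h : L), h.2, ?_, ?_⟩
  · intro u hu
    have h1 : (⟨u, hUH hu⟩ : H) ∈ (Q : Subgroup H) := hQ (mem_subgroupOf.2 hu)
    rw [← hh, Sylow.coe_subgroup_smul] at h1
    have h2 := Subgroup.mem_pointwise_smul_iff_inv_smul_mem.1 h1
    have h3 : ((MulAut.conj h)⁻¹ • (⟨u, hUH hu⟩ : H) : H).1 ∈ (S : Subgroup L) := h2
    rw [Sylow.coe_subgroup_smul]
    apply Subgroup.mem_pointwise_smul_iff_inv_smul_mem.2
    exact h3
  · intro s hs
    rw [Sylow.coe_subgroup_smul] at hs
    have h1 := Subgroup.mem_pointwise_smul_iff_inv_smul_mem.1 hs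
    rw [← map_inv, MulAut.smul_def, MulAut.conj_apply, inv_inv] at h1
    have h2 := mul_mem (mul_mem h.2 (hS h1)) (inv_mem h.2)
    have h3 : (h : L) * ((h : L)⁻¹ * s * h) * (h : L)⁻¹ = s := by group
    rwa [h3] at h2

theorem mem_smul_sylow {S : Sylow 2 L} {y s : L} : y * s * y⁻¹ ∈ ((y • S : Sylow 2 L) : Subgroup L) ↔
    s ∈ (S : Subgroup L) := by
  rw [Sylow.coe_subgroup_smul, Subgroup.mem_pointwise_smul_iff_inv_smul_mem, ← map_inv, MulAut.smul_def,
    MulAut.conj_apply, inv_inv]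
  have e : y⁻¹ * (y * s * y⁻¹) * y = s := by group
  rw [e]

section good

variable {S : Sylow 2 L} (hU : M.Up ≤ (S : Subgroup L)) (hS : (S : Subgroup L) ≤ normalizer (M.E : Set L))
include hU hS

/-- exceptional case: `C_V(S)` has order two -/
theorem point_good (h4 : 4 ≤ Nat.card F) (hst : ¬ (M.inp hU hS h4).Strong) :
    ∃ w, w ≠ 0 ∧ (∀ s ∈ (S : Subgroup L), M.T s w = w) ∧ ∀ x, (∀ s ∈ (S : Subgroup L), M.T s x = x) → x = 0 ∨ x = w := by
  have : Fact (Nat.Prime 2) := ⟨Nat.prime_two⟩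
  have hF4 : Nat.card F = 4 := by
    have hfV : Finite V := Finite.of_equiv _ M.e
    rw [← M.card_Up, (M.inp hU hS h4).card_eq_four hst]
  -- a fixed vector
  let _ : MulAction S (Fin 2 → F) :=
    { smul := fun s x => M.T s x
      one_smul := fun x => M.T_one x
      mul_smul := fun s t x => M.T_mul s t x }
  have hcard : 2 ∣ Nat.card (Fin 2 → F) := by
    rw [show Nat.card (Fin 2 → F) = Nat.card F * Nat.card F by simp [Nat.card_fun, pow_two]]
    exact (dvd_card (F := F)).mul_left _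
  obtain ⟨w, hw, hw0⟩ := S.isPGroup'.exists_fixed_point_of_prime_dvd_card_of_fixed_point (Fin 2 → F) hcard (a := 0)
    (fun s => M.T_zero s)
  have hw' : ∀ s ∈ (S : Subgroup L), M.T s w = w := fun s hs => hw ⟨s, hs⟩
  refine ⟨w, hw0.symm, hw', ?_⟩
  have hline : ∀ x, (∀ s ∈ (S : Subgroup L), M.T s x = x) → x 1 = 0 := by
    intro x hx
    have h1 := hx (M.m (up 1)) (hU ⟨1, rfl⟩)
    rw [M.T_m, ap_up] at h1
    have := congrFun h1 0
    simpa using this
  -- a field automorphism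
  unfold NormAbs.Inp.Strong at hst
  push Not at hst
  obtain ⟨a, ha, g, htS, htA⟩ := hst
  obtain ⟨σ, γ, β, δ, hσ, hγ, hδ, hT⟩ := M.normal_form hU hS htS
  have hσ1 : σ ≠ 1 := fun e => htA (M.mem_Up_of_sg hU hS htS (by rw [← hσ, e]))
  have h2 : ∀ x, (∀ s ∈ (S : Subgroup L), M.T s x = x) → σ (x 0) * γ = x 0 := by
    intro x hx
    have h1 := hx _ htS
    have h3 := hline x hx
    rw [hT, h3] at h1
    have := congrFun h1 0
    simpa using this
  have hw1 := hline w hw'
  have hw00 : w 0 ≠ 0 := fun h => hw0.symm (ext2 h hw1)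
  intro x hx
  by_cases hx0 : x 0 = 0
  · left
    exact ext2 hx0 (hline x hx)
  · right
    set κ := x 0 / w 0 with hκ
    have hκ0 : κ ≠ 0 := div_ne_zero hx0 hw00
    have hκσ : σ κ = κ := by
      have e1 := h2 x hx
      have e2 := h2 w hw'
      have hσw : σ (w 0) ≠ 0 := by
        intro h
        rw [h, zero_mul] at e2
        exact hw00 e2.symm
      rw [hκ, map_div₀, div_eq_div_iff hσw hw00]
      have e3 : (σ (x 0) * w 0 - x 0 * σ (w 0)) * γ = 0 := by
        linear_combination w 0 * e1 - x 0 * e2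
      rcases mul_eq_zero.1 e3 with h | h
      · linear_combination h
      · exact absurd h hγ
    by_cases hκ1 : κ = 1
    · apply ext2
      · rw [hκ, div_eq_one_iff_eq hw00] at hκ1
        exact hκ1
      · rw [hline x hx, hw1]
    · exfalso
      apply hσ1
      ext c
      by_cases hc : c = 0
      · rw [hc, map_zero]; rfl
      · obtain ⟨i, hi⟩ := NormExc.exists_pow hF4 hκ0 hκ1 c hc
        rw [← hi, map_pow, hκσ]; rfl

end good

/-- **LEMMA NORM, linear level** -/
theorem dich (S : Sylow 2 L) (hS : (S : Subgroup L) ≤ normalizer (M.E : Set L)) :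
    (∀ (g : L) (A : Matrix.SpecialLinearGroup (Fin 2) F), g * M.m A * g⁻¹ ∈ M.E) ∨
    (Nat.card F = 4 ∧ (∀ (ρ : F) (v : Fin 2 → F), ρ ≠ 0 → v 1 ≠ 0 → ∃ k : L, M.T k⁻¹ ![ρ, 0] 1 = 0 ∧ M.T k⁻¹ v 1 = 0) ∧
      ∃ w, w ≠ 0 ∧ (∀ s ∈ (S : Subgroup L), M.T s w = w) ∧
        ∀ x, (∀ s ∈ (S : Subgroup L), M.T s x = x) → x = 0 ∨ x = w) := by
  by_cases h2 : Nat.card F = 2
  · exact Or.inl fun g A => M.mem_E_of_two h2 _
  have h4 : 4 ≤ Nat.card F := by
    have : Fintype F := Fintype.ofFinite F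
    obtain ⟨n, -, hn⟩ := FiniteField.card F 2
    rw [Nat.card_eq_fintype_card, hn] at h2 ⊢
    rcases Nat.lt_or_ge (n : ℕ) 2 with h | h
    · exfalso
      have h1 : (n : ℕ) = 1 := by have := n.pos; omega
      rw [h1] at h2
      exact h2 rfl
    · calc 4 = 2 ^ 2 := by norm_num
        _ ≤ 2 ^ (n : ℕ) := Nat.pow_le_pow_right (by norm_num) h
  obtain ⟨y, hy, hU, hT⟩ := M.exists_good' S hS
  by_cases hst : (M.inp hU hT h4).Strong
  · exact Or.inl fun g A => M.norm_of_strong hU hT h4 hst g A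
  right
  refine ⟨?_, fun ρ v hρ hv => NormExc.exc M hU hT h4 hst hρ hv, ?_⟩
  · have hfV : Finite V := Finite.of_equiv _ M.e
    rw [← M.card_Up, (M.inp hU hT h4).card_eq_four hst]
  · obtain ⟨w, hw0, hw1, hw2⟩ := M.point_good hU hT h4 hst
    refine ⟨M.T y⁻¹ w, M.T_ne_zero hw0, ?_, ?_⟩
    · intro s hs
      have h1 := hw1 _ (mem_smul_sylow.2 hs)
      have h3 := congrArg (M.T y⁻¹) h1
      rw [← M.T_mul] at h3
      have e : y⁻¹ * (y * s * y⁻¹) = s * y⁻¹ := by group
      rwa [e, M.T_mul] at h3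
    · intro x hx
      have h1 := hw2 (M.T y x) (by
        intro s hs
        have h3 := hx (y⁻¹ * s * y) (by
          rw [← mem_smul_sylow (y := y)]
          have e : y * (y⁻¹ * s * y) * y⁻¹ = s := by group
          rwa [e])
        have h5 := congrArg (M.T y) h3
        rw [← M.T_mul] at h5
        have e : y * (y⁻¹ * s * y) = s * y := by group
        rwa [e, M.T_mul] at h5)
      rcases h1 with h1 | h1
      · left
        rw [← M.T_inv_T y x, h1, M.T_zero]
      · right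
        rw [← h1, M.T_inv_T]

end NormLev.Co

/-! ### The group level -/

namespace PreMod

variable {G : Type*} [Group G] {F : Type*} [Field F] {V : Subgroup G} (M : PreMod F V)

/-- the linear group induced by `N_G(V)` -/
abbrev Lin (V : Subgroup G) : Subgroup (MulAut V) := V.normalizerMonoidHom.range

/-- the linear map induced by `g` -/
noncomputable def rr (g : normalizer (V : Set G)) : Lin V := V.normalizerMonoidHom.rangeRestrict g

theorem rr_smul (g : normalizer (V : Set G)) (v : V) : ((rr g • v : V) : G) = g * v * (g : G)⁻¹ := rfl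

theorem rr_mul (g h : normalizer (V : Set G)) : rr (g * h) = rr g * rr h := map_mul _ _ _

theorem rr_inv (g : normalizer (V : Set G)) : rr g⁻¹ = (rr g)⁻¹ := map_inv _ _

theorem rr_surj (x : Lin V) : ∃ g : normalizer (V : Set G), rr g = x :=
  V.normalizerMonoidHom.rangeRestrict_surjective x

/-- the bijection `F² ≃ V` -/
noncomputable def eqv : (Fin 2 → F) ≃ V := Equiv.ofBijective (fun x => ⟨M.e x, M.e_mem x⟩) (by
  constructor
  · intro x y h
    exact M.e_inj (congrArg Subtype.val h)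
  · rintro ⟨v, hv⟩
    obtain ⟨x, rfl⟩ := (M.mem_iff v).1 hv
    exact ⟨x, rfl⟩)

theorem eqv_coe (x : Fin 2 → F) : ((M.eqv x : V) : G) = M.e x := rfl

/-- the linear level -/
noncomputable def toCo : NormLev.Co F (Lin V) V where
  e := M.eqv
  e_add x y := Subtype.ext (by
    show M.e (x + y) = M.e x * M.e y
    rw [M.e_add])
  m A := rr ⟨(M.lift A).choose, M.mem_normalizer (M.lift A).choose_spec⟩
  m_smul A x := Subtype.ext (by
    rw [rr_smul]
    exact (M.lift A).choose_spec x)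
  faith g h := by
    apply Subtype.ext
    apply MulEquiv.ext
    intro v
    exact h v

theorem e_T (g : normalizer (V : Set G)) (x : Fin 2 → F) : M.e (M.toCo.T (rr g) x) = g * M.e x * (g : G)⁻¹ := by
  have h := congrArg Subtype.val (M.toCo.e_T (rr g) x)
  exact h

theorem ind_iff (g : normalizer (V : Set G)) (A : Matrix.SpecialLinearGroup (Fin 2) F) :
    M.Ind g A ↔ M.toCo.m A = rr g := by
  constructor
  · intro h
    apply M.toCo.ext
    intro x
    rw [M.toCo.T_m]
    apply M.e_inj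
    rw [M.e_T, h]
  · intro h x
    rw [← M.e_T, ← h, M.toCo.T_m]

theorem mem_E_iff (g : normalizer (V : Set G)) : rr g ∈ M.toCo.E ↔ ∃ A, M.Ind g A := by
  constructor
  · rintro ⟨A, hA⟩
    exact ⟨A, (M.ind_iff g A).2 hA⟩
  · rintro ⟨A, hA⟩
    exact ⟨A, (M.ind_iff g A).1 hA⟩

/-- **LEMMA NORM** -/
theorem dich [Finite G] [Finite F] [CharP F 2] (S : Sylow 2 G) (hSV : (S : Subgroup G) ≤ normalizer (V : Set G))
    (hS : ∀ s ∈ (S : Subgroup G), M.Nm s) :
    (∀ g ∈ normalizer (V : Set G), M.Nm g) ∨ M.Exc (S : Subgroup G) := by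
  have : Fact (Nat.Prime 2) := ⟨Nat.prime_two⟩
  have hsurj : Function.Surjective V.normalizerMonoidHom.rangeRestrict := V.normalizerMonoidHom.rangeRestrict_surjective
  let S' : Sylow 2 (Lin V) := (S.subtype hSV).mapSurjective hsurj
  have hS' : ∀ x : Lin V, x ∈ (S' : Subgroup (Lin V)) ↔ ∃ s : normalizer (V : Set G), (s : G) ∈ (S : Subgroup G) ∧ rr s = x := by
    intro x
    show x ∈ ((S.subtype hSV : Sylow 2 (normalizer (V : Set G))) : Subgroup _).map V.normalizerMonoidHom.rangeRestrict ↔ _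
    rw [Subgroup.mem_map]
    constructor
    · rintro ⟨s, hs, rfl⟩
      exact ⟨s, hs, rfl⟩
    · rintro ⟨s, hs, rfl⟩
      exact ⟨s, hs, rfl⟩
  have hconj : ∀ s : normalizer (V : Set G), (s : G) ∈ (S : Subgroup G) → ∀ x ∈ M.toCo.E, rr s * x * (rr s)⁻¹ ∈ M.toCo.E := by
    intro s hs x hx
    obtain ⟨h, rfl⟩ := rr_surj x
    obtain ⟨A, hA⟩ := (M.mem_E_iff h).1 hx
    obtain ⟨B, hB⟩ := hS s hs h A hA
    rw [← rr_inv, ← rr_mul, ← rr_mul]
    exact (M.mem_E_iff _).2 ⟨B, hB⟩
  have hN : (S' : Subgroup (Lin V)) ≤ normalizer (M.toCo.E : Set (Lin V)) := by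
    intro x hx
    obtain ⟨s, hs, rfl⟩ := (hS' x).1 hx
    rw [mem_normalizer_iff]
    intro y
    constructor
    · exact hconj s hs y
    · intro hy
      have h1 := hconj s⁻¹ (inv_mem hs) _ hy
      rw [rr_inv, inv_inv] at h1
      have e : (rr s)⁻¹ * (rr s * y * (rr s)⁻¹) * rr s = y := by group
      rwa [e] at h1
  rcases M.toCo.dich S' hN with h | ⟨h4, hf, w, hw0, hw1, hw2⟩
  · left
    intro g hg h' A hA
    have h1 := h (rr ⟨g, hg⟩) A
    rw [(M.ind_iff ⟨h', M.mem_normalizer hA⟩ A).1 hA, ← rr_inv, ← rr_mul, ← rr_mul] at h1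
    exact (M.mem_E_iff _).1 h1
  · right
    have hmul : ∀ (g : normalizer (V : Set G)) (x : Fin 2 → F), M.e (M.toCo.T (rr g)⁻¹ x) = (g : G)⁻¹ * M.e x * g := by
      intro g x
      rw [← rr_inv, M.e_T]
      simp
    have hfix : ∀ x, (∀ s ∈ (S' : Subgroup (Lin V)), M.toCo.T s x = x) ↔ M.e x ∈ centralizer ((S : Subgroup G) : Set G) := by
      intro x
      rw [mem_centralizer_iff]
      constructor
      · intro h s hs
        have h1 := h _ ((hS' _).2 ⟨⟨s, hSV hs⟩, hs, rfl⟩)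
        have h2 := M.e_T ⟨s, hSV hs⟩ x
        rw [h1] at h2
        rw [eq_mul_inv_iff_mul_eq] at h2
        exact h2.symm
      · intro h s hs
        obtain ⟨s, hs', rfl⟩ := (hS' s).1 hs
        apply M.e_inj
        rw [M.e_T, h s hs', mul_inv_cancel_right]
    refine ⟨h4, ?_, w, hw0, ?_, ?_, ?_⟩
    · rintro w hw _ ⟨c, rfl⟩ hr v hv hvw
      obtain ⟨x, rfl⟩ := (M.mem_iff v).1 hv
      have hc : c ≠ 0 := by
        rintro rfl
        exact hr (by rw [zero_smul, M.e_zero])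
      obtain ⟨P, hP⟩ := exists_ap_e hw
      have hPc : ap P⁻¹ (c • w) = ![c, 0] := by
        rw [← hP, ← ap_smul, ap_inv_ap]
        apply ext2 <;> simp
      have hline : ∀ z : Fin 2 → F, z 1 = 0 → M.e (ap P z) ∈ M.line w := by
        intro z hz
        refine M.e_mem_line.2 ⟨z 0, ?_⟩
        rw [← hP, ← ap_smul]
        congr 1
        apply ext2 <;> simp [hz]
      have hx1 : ap P⁻¹ x 1 ≠ 0 := by
        intro h
        apply hvw
        have := hline _ h
        rwa [ap_ap_inv] at this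
      obtain ⟨k, hk1, hk2⟩ := hf c (ap P⁻¹ x) hc hx1
      obtain ⟨k, rfl⟩ := rr_surj k
      obtain ⟨p, hp⟩ := M.lift P
      have hpV := M.mem_normalizer hp
      have hp' : ∀ y, p⁻¹ * M.e y * p = M.e (ap P⁻¹ y) := by
        intro y
        have h1 := hp (ap P⁻¹ y)
        rw [ap_ap_inv] at h1
        rw [← h1]; group
      refine ⟨p * k * p⁻¹, mul_mem (mul_mem hpV k.2) (inv_mem hpV), ?_, ?_⟩
      · rw [mem_cj]
        have e : (p * k * p⁻¹)⁻¹ * M.e (c • w) * (p * k * p⁻¹) =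
            p * ((k : G)⁻¹ * (p⁻¹ * M.e (c • w) * p) * k) * p⁻¹ := by group
        rw [e, hp', hPc, ← hmul, hp]
        exact hline _ hk1
      · rw [mem_cj]
        have e : (p * k * p⁻¹)⁻¹ * M.e x * (p * k * p⁻¹) =
            p * ((k : G)⁻¹ * (p⁻¹ * M.e x * p) * k) * p⁻¹ := by group
        rw [e, hp', ← hmul, hp]
        exact hline _ hk2
    · -- `S` normalises the line
      intro s hs
      have hs' : rr ⟨s, hSV hs⟩ ∈ (S' : Subgroup (Lin V)) := (hS' _).2 ⟨⟨s, hSV hs⟩, hs, rfl⟩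
      have key : ∀ s : normalizer (V : Set G), (s : G) ∈ (S : Subgroup G) → ∀ z ∈ M.line w, (s : G) * z * (s : G)⁻¹ ∈ M.line w := by
        rintro s hs _ ⟨c, rfl⟩
        have hs' : rr s ∈ (S' : Subgroup (Lin V)) := (hS' _).2 ⟨s, hs, rfl⟩
        obtain ⟨σ, hσ⟩ := M.toCo.exists_sg (hN hs')
        rw [← M.e_T, hσ, hw1 _ hs']
        exact ⟨_, rfl⟩
      rw [mem_normalizer_iff]
      intro z
      constructor
      · exact key ⟨s, hSV hs⟩ hs z
      · intro hz
        have h1 := key ⟨s⁻¹, hSV (inv_mem hs)⟩ (inv_mem hs) _ hz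
        have e : s⁻¹ * (s * z * s⁻¹) * s⁻¹⁻¹ = z := by group
        rwa [e] at h1
    · rintro v ⟨hv, hvS⟩
      obtain ⟨x, rfl⟩ := (M.mem_iff v).1 hv
      rcases hw2 x ((hfix x).2 hvS) with rfl | rfl
      · rw [M.e_zero]; exact one_mem _
      · exact ⟨1, by rw [one_smul]⟩
    · have h1 : ((V ⊓ centralizer ((S : Subgroup G) : Set G) : Subgroup G) : Set G) = {1, M.e w} := by
        ext v
        constructor
        · rintro ⟨hv, hvS⟩
          obtain ⟨x, rfl⟩ := (M.mem_iff v).1 hv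
          rcases hw2 x ((hfix x).2 hvS) with rfl | rfl
          · left; exact M.e_zero
          · right; rfl
        · rintro (rfl | rfl)
          · exact one_mem (V ⊓ centralizer ((S : Subgroup G) : Set G))
          · exact ⟨M.e_mem w, (hfix w).1 hw1⟩
      have h2 : Nat.card ↥(V ⊓ centralizer ((S : Subgroup G) : Set G)) =
          ((V ⊓ centralizer ((S : Subgroup G) : Set G) : Subgroup G) : Set G).ncard := rfl
      rw [h2, h1, Set.ncard_pair]
      intro h
      exact hw0 (M.e_eq_one.1 h.symm)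

end PreMod

end Cfsg.Agent.Omega.NatPair

end

section


/-!
# LEMMA NORM for a Sylow 2-subgroup `T` of `N_G(V)`

`PreMod.dich_sub`: `PreMod.dich` with `T ≤ N_G(V)` a 2-group, `¬ 2 ∣ |N_G(V) : T|`, in place of a Sylow 2-subgroup of `G`
(`PreMod.dich` for the group `N_G(V)`).
-/

set_option autoImplicit false
set_option linter.unusedSectionVars false

namespace Cfsg.Agent.Omega.NatPair

open Subgroup Cfsg.Agent.Lib.SL2Mat

namespace PreMod

variable {G : Type*} [Group G] {F : Type*} [Field F] {V : Subgroup G} (M : PreMod F V)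

/-- `V` as a module for the group `N_G(V)` -/
def sub : PreMod F (V.subgroupOf (normalizer (V : Set G))) where
  e x := ⟨M.e x, le_normalizer (M.e_mem x)⟩
  e_add x y := Subtype.ext (M.e_add x y)
  e_inj _ _ h := M.e_inj (congrArg Subtype.val h)
  mem_iff g := by
    rw [mem_subgroupOf, M.mem_iff]
    exact ⟨fun ⟨x, hx⟩ => ⟨x, Subtype.ext hx⟩, fun ⟨x, hx⟩ => ⟨x, congrArg Subtype.val hx⟩⟩
  lift A := by
    obtain ⟨g, hg⟩ := M.lift A
    exact ⟨⟨g, M.mem_normalizer hg⟩, fun x => Subtype.ext (hg x)⟩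

theorem sub_ind {g : normalizer (V : Set G)} {A : Matrix.SpecialLinearGroup (Fin 2) F} :
    M.sub.Ind g A ↔ M.Ind (g : G) A :=
  ⟨fun h x => congrArg Subtype.val (h x), fun h x => Subtype.ext (h x)⟩

theorem sub_Nm {g : normalizer (V : Set G)} : M.sub.Nm g ↔ M.Nm (g : G) := by
  constructor
  · intro h k A hA
    obtain ⟨B, hB⟩ := h ⟨k, M.mem_normalizer hA⟩ A (M.sub_ind.2 hA)
    exact ⟨B, M.sub_ind.1 hB⟩
  · intro h k A hA
    obtain ⟨B, hB⟩ := h (k : G) A (M.sub_ind.1 hA)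
    exact ⟨B, M.sub_ind.2 hB⟩

theorem mem_sub_line {g : normalizer (V : Set G)} {w : Fin 2 → F} : g ∈ M.sub.line w ↔ (g : G) ∈ M.line w :=
  ⟨fun ⟨c, hc⟩ => ⟨c, congrArg Subtype.val hc⟩, fun ⟨c, hc⟩ => ⟨c, Subtype.ext hc⟩⟩

theorem mem_normalizer_sub {H N : Subgroup G} {g : N} (hg : (g : G) ∈ normalizer (H : Set G)) :
    g ∈ normalizer ((H.subgroupOf N : Subgroup N) : Set N) := by
  rw [mem_normalizer_iff]
  intro x
  rw [mem_subgroupOf, mem_subgroupOf]
  exact mem_normalizer_iff.1 hg x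

/-- **LEMMA NORM** for a Sylow 2-subgroup `T` of `N_G(V)` -/
theorem dich_sub [Finite G] [Finite F] [CharP F 2] {T : Subgroup G} (hT2 : IsPGroup 2 T)
    (hTV : T ≤ normalizer (V : Set G)) (hTs : ¬ 2 ∣ T.relIndex (normalizer (V : Set G)))
    (hT : ∀ t ∈ T, M.Nm t) : (∀ g ∈ normalizer (V : Set G), M.Nm g) ∨ M.Exc T := by
  have : Fact (Nat.Prime 2) := ⟨Nat.prime_two⟩
  set N : Subgroup G := normalizer (V : Set G) with hN
  have hp : IsPGroup 2 (T.subgroupOf N) := hT2.comap_of_injective N.subtype N.subtype_injective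
  let S : Sylow 2 N := hp.toSylow hTs
  have hS : ∀ x : N, x ∈ (S : Subgroup N) ↔ (x : G) ∈ T := fun x => Iff.rfl
  have hn : ∀ x : N, x ∈ normalizer ((V.subgroupOf N : Subgroup N) : Set N) := fun x =>
    mem_normalizer_sub x.2
  rcases M.sub.dich S (fun x _ => hn x) (fun x hx => M.sub_Nm.2 (hT x ((hS x).1 hx))) with h | h
  · left
    intro g hg
    exact M.sub_Nm.1 (h ⟨g, hg⟩ (hn _))
  · right
    refine ⟨h.card, ?_, ?_⟩
    · intro w hw r hr hr1 v hv hvw
      obtain ⟨g, -, h1, h2⟩ := h.fuse w hw ⟨r, le_normalizer (M.line_le w hr)⟩ (M.mem_sub_line.2 hr)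
        (fun e => hr1 (congrArg Subtype.val e)) ⟨v, le_normalizer hv⟩ hv
        (fun e => hvw (M.mem_sub_line.1 e))
      rw [mem_cj] at h1 h2
      exact ⟨g, g.2, mem_cj.2 (M.mem_sub_line.1 h1), mem_cj.2 (M.mem_sub_line.1 h2)⟩
    · obtain ⟨w, hw, h1, h2, h3⟩ := h.point
      have hc : ∀ x : N, x ∈ centralizer ((S : Subgroup N) : Set N) ↔ (x : G) ∈ centralizer (T : Set G) := by
        intro x
        rw [mem_centralizer_iff, mem_centralizer_iff]
        constructor
        · intro hx t ht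
          exact congrArg Subtype.val (hx ⟨t, hTV ht⟩ ht)
        · intro hx t ht
          exact Subtype.ext (hx t ht)
      refine ⟨w, hw, ?_, ?_, ?_⟩
      · intro t ht
        have h4 := h1 (show (⟨t, hTV ht⟩ : N) ∈ (S : Subgroup N) from ht)
        rw [mem_normalizer_iff] at h4 ⊢
        intro x
        constructor
        · intro hx
          exact M.mem_sub_line.1 ((h4 ⟨x, le_normalizer (M.line_le w hx)⟩).1 (M.mem_sub_line.2 hx))
        · intro hx
          have hxV : x ∈ V := by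
            have h5 := (mem_normalizer_iff.1 (hTV ht) x).2 (M.line_le w hx)
            exact h5
          exact M.mem_sub_line.1 ((h4 ⟨x, le_normalizer hxV⟩).2 (M.mem_sub_line.2 hx))
      · rintro x ⟨hx, hxT⟩
        exact M.mem_sub_line.1 (h2 (show (⟨x, le_normalizer hx⟩ : N) ∈ _ from ⟨hx, (hc _).2 hxT⟩))
      · rw [← h3]
        refine Nat.card_congr ⟨fun x => ⟨⟨x, le_normalizer x.2.1⟩, ⟨x.2.1, (hc _).2 x.2.2⟩⟩,
          fun x => ⟨x, ⟨x.2.1, (hc _).1 x.2.2⟩⟩, fun x => rfl, fun x => rfl⟩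

end PreMod

end Cfsg.Agent.Omega.NatPair

end
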